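import Groth.Agent.QCohMod.TensorStalk
import Groth.Agent.QCohMod.Stalk
import Groth.Prelude.Def_DCoh4
import Groth.Prelude.Def_DerSch
import Mathlib.CategoryTheory.Functor.ReflectsIso.Exact
import Mathlib.CategoryTheory.Functor.ReflectsIso.Limits
import Mathlib.Algebra.Category.ModuleCat.Monoidal.Closed
import Mathlib.RingTheory.Flat.CategoryTheory

/-!
The tensor product of `O_X`-modules on stalks, as an isomorphism of functors.
-/

universe u

open CategoryTheory CategoryTheory.Limits AlgebraicGeometry Opposite TopologicalSpace MonoidalCategory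
open Groth.PicAux (tmulSec)

namespace Groth.DerivedCoh.KFlat

variable {X : Scheme.{u}}

lemma tensorMap_tmulSec (M : X.Modules) {N N' : X.Modules} (φ : N ⟶ N') (W : X.Opens)
    (a : Γ(M, W)) (b : Γ(N, W)) :
    (((DCoh.tensorBi (X := X)).obj M).map φ).app W (tmulSec a b) =
      (tmulSec a (φ.app W b) : Γ(CohB1.tensorMod M N', W)) :=
  congr((($((PresheafOfModules.sheafificationAdjunction (𝟙 X.ringCatSheaf.obj)).unit.naturality
    (DCoh.toP.obj M ◁ DCoh.toP.map φ))).app (op W)) (a ⊗ₜ b)).symm

lemma tensorMap_left_tmulSec {M M' : X.Modules} (ψ : M ⟶ M') (N : X.Modules) (W : X.Opens)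
    (a : Γ(M, W)) (b : Γ(N, W)) :
    (((DCoh.tensorBi (X := X)).map ψ).app N).app W (tmulSec a b) =
      (tmulSec (ψ.app W a) b : Γ(CohB1.tensorMod M' N, W)) :=
  congr((($((PresheafOfModules.sheafificationAdjunction (𝟙 X.ringCatSheaf.obj)).unit.naturality
    (DCoh.toP.map ψ ▷ DCoh.toP.obj N))).app (op W)) (a ⊗ₜ b)).symm

/-- the stalk functor with values in modules -/
noncomputable abbrev stk (x : X) : X.Modules ⥤ ModuleCat.{u} (X.presheaf.stalk x) :=
  DerSch.stalkFunctor X x

/-- the stalk of the tensor product -/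
noncomputable def stkTensorIso (M N : X.Modules) (x : X) :
    (stk x).obj M ⊗ (stk x).obj N ≅ (stk x).obj (((DCoh.tensorBi (X := X)).obj M).obj N) :=
  (Groth.QCohMod.stalkTensorEquiv M N x).toModuleIso

lemma stkTensorIso_tmul (M N : X.Modules) (x : X) {W : X.Opens} (hx : x ∈ W) (a : Γ(M, W))
    (b : Γ(N, W)) :
    (stkTensorIso M N x).hom (M.presheaf.germ W x hx a ⊗ₜ N.presheaf.germ W x hx b) =
      (((DCoh.tensorBi (X := X)).obj M).obj N).presheaf.germ W x hx
        (tmulSec a b : Γ(CohB1.tensorMod M N, W)) :=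
  Groth.QCohMod.stalkTensorEquiv_tmul M N x hx a b

lemma stkTensorIso_right (M : X.Modules) {N N' : X.Modules} (φ : N ⟶ N') (x : X) :
    (stk x).obj M ◁ (stk x).map φ ≫ (stkTensorIso M N' x).hom =
      (stkTensorIso M N x).hom ≫ (stk x).map (((DCoh.tensorBi (X := X)).obj M).map φ) := by
  refine ModuleCat.MonoidalCategory.tensor_ext fun s t => ?_
  obtain ⟨W, hx, a, b, rfl, rfl⟩ := Groth.QCohMod.exists_common_germ (M := M) (N := N) x s t
  change (stkTensorIso M N' x).hom (M.presheaf.germ W x hx a ⊗ₜ
      (stk x).map φ (N.presheaf.germ W x hx b)) =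
    (stk x).map (((DCoh.tensorBi (X := X)).obj M).map φ)
      ((stkTensorIso M N x).hom (M.presheaf.germ W x hx a ⊗ₜ N.presheaf.germ W x hx b))
  rw [stkTensorIso_tmul, DerSch.stalkFunctor_map_germ, DerSch.stalkFunctor_map_germ,
    stkTensorIso_tmul, tensorMap_tmulSec]

lemma stkTensorIso_left {M M' : X.Modules} (ψ : M ⟶ M') (N : X.Modules) (x : X) :
    (stk x).map ψ ▷ (stk x).obj N ≫ (stkTensorIso M' N x).hom =
      (stkTensorIso M N x).hom ≫ (stk x).map (((DCoh.tensorBi (X := X)).map ψ).app N) := by
  refine ModuleCat.MonoidalCategory.tensor_ext fun s t => ?_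
  obtain ⟨W, hx, a, b, rfl, rfl⟩ := Groth.QCohMod.exists_common_germ (M := M) (N := N) x s t
  change (stkTensorIso M' N x).hom ((stk x).map ψ (M.presheaf.germ W x hx a) ⊗ₜ
      N.presheaf.germ W x hx b) =
    (stk x).map (((DCoh.tensorBi (X := X)).map ψ).app N)
      ((stkTensorIso M N x).hom (M.presheaf.germ W x hx a ⊗ₜ N.presheaf.germ W x hx b))
  rw [stkTensorIso_tmul, DerSch.stalkFunctor_map_germ, DerSch.stalkFunctor_map_germ,
    stkTensorIso_tmul, tensorMap_left_tmulSec]

/-- tensoring on the left, on stalks -/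
noncomputable def tensorStkIso (M : X.Modules) (x : X) :
    (DCoh.tensorBi (X := X)).obj M ⋙ stk x ≅ stk x ⋙ tensorLeft ((stk x).obj M) :=
  NatIso.ofComponents (fun N => (stkTensorIso M N x).symm) fun {N N'} φ => by
    change (stk x).map _ ≫ (stkTensorIso M N' x).inv = (stkTensorIso M N x).inv ≫ _ ◁ (stk x).map φ
    rw [Iso.eq_inv_comp, ← Category.assoc, Iso.comp_inv_eq, stkTensorIso_right]

/-- tensoring on the right, on stalks -/
noncomputable def tensorFlipStkIso (N : X.Modules) (x : X) :
    (DCoh.tensorBi (X := X)).flip.obj N ⋙ stk x ≅ stk x ⋙ tensorRight ((stk x).obj N) :=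
  NatIso.ofComponents (fun M => (stkTensorIso M N x).symm) fun {M M'} ψ => by
    change (stk x).map _ ≫ (stkTensorIso M' N x).inv = (stkTensorIso M N x).inv ≫ (stk x).map ψ ▷ _
    rw [Iso.eq_inv_comp, ← Category.assoc, Iso.comp_inv_eq, stkTensorIso_left]
    rfl

/-- forgetting the module structure -/
noncomputable def stkForgetIso (x : X) :
    stk x ⋙ forget₂ (ModuleCat.{u} (X.presheaf.stalk x)) AddCommGrpCat.{u} ≅
      Groth.QCohMod.stalk x :=
  Iso.refl _

instance {J : Type} [SmallCategory J] (x : X) : PreservesColimitsOfShape J (stk x) :=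
  have : PreservesColimitsOfShape J
      (stk x ⋙ forget₂ (ModuleCat.{u} (X.presheaf.stalk x)) AddCommGrpCat.{u}) :=
    preservesColimitsOfShape_of_natIso (stkForgetIso x).symm
  preservesColimitsOfShape_of_reflects_of_preserves _
    (forget₂ (ModuleCat.{u} (X.presheaf.stalk x)) AddCommGrpCat.{u})

instance (x : X) : PreservesFiniteLimits (stk x) :=
  have : PreservesFiniteLimits
      (stk x ⋙ forget₂ (ModuleCat.{u} (X.presheaf.stalk x)) AddCommGrpCat.{u}) :=
    preservesFiniteLimits_of_natIso (stkForgetIso x).symm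
  preservesFiniteLimits_of_reflects_of_preserves _
    (forget₂ (ModuleCat.{u} (X.presheaf.stalk x)) AddCommGrpCat.{u})

instance (x : X) : PreservesFiniteColimits (stk x) where
  preservesFiniteColimits _ _ _ := inferInstance

lemma stk_jointly : JointlyReflectIsomorphisms (fun x : X => stk x) where
  isIso {M N} φ _ := Groth.QCohMod.isIso_of_stalk φ fun x =>
    inferInstanceAs (IsIso ((forget₂ (ModuleCat.{u} (X.presheaf.stalk x)) AddCommGrpCat.{u}).map
      ((stk x).map φ)))

instance preservesColimitsOfShape_tensorBi {J : Type} [SmallCategory J] (M : X.Modules) :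
    PreservesColimitsOfShape J ((DCoh.tensorBi (X := X)).obj M) where
  preservesColimit {G} := ⟨fun {c} hc => ⟨by
    refine stk_jointly.jointlyReflectsColimit fun x => ?_
    exact IsColimit.mapCoconeEquiv (tensorStkIso M x).symm
      (isColimitOfPreserves (tensorLeft ((stk x).obj M)) (isColimitOfPreserves (stk x) hc))⟩⟩

lemma shortExact_iff_stk (S : ShortComplex X.Modules) :
    S.ShortExact ↔ ∀ x : X, (S.map (stk x)).ShortExact :=
  stk_jointly.shortExact_iff S

/-- tensoring with a flat module is exact, on the right -/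
lemma shortExact_tensorRight_of_flat (N : X.Modules) (hN : FlatMod.IsFlat N)
    (S : ShortComplex X.Modules) (hS : S.ShortExact) :
    (S.map ((DCoh.tensorBi (X := X)).flip.obj N)).ShortExact := by
  rw [shortExact_iff_stk]
  intro x
  have : Module.Flat (X.presheaf.stalk x) ((stk x).obj N) := hN x
  have h := (shortExact_iff_stk S).1 hS x
  refine ShortComplex.shortExact_of_iso (S.mapNatIso (tensorFlipStkIso N x)).symm ?_
  have : PreservesFiniteColimits (tensorRight ((stk x).obj N)) :=
    preservesFiniteColimits_of_natIso (BraidedCategory.tensorLeftIsoTensorRight ((stk x).obj N))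
  exact h.map_of_exact (tensorRight ((stk x).obj N))

/-- tensoring with a flat module is exact, on the left -/
lemma shortExact_tensorLeft_of_flat (M : X.Modules) (hM : FlatMod.IsFlat M)
    (S : ShortComplex X.Modules) (hS : S.ShortExact) :
    (S.map ((DCoh.tensorBi (X := X)).obj M)).ShortExact := by
  rw [shortExact_iff_stk]
  intro x
  have : Module.Flat (X.presheaf.stalk x) ((stk x).obj M) := hM x
  have h := (shortExact_iff_stk S).1 hS x
  refine ShortComplex.shortExact_of_iso (S.mapNatIso (tensorStkIso M x)).symm ?_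
  exact h.map_of_exact (tensorLeft ((stk x).obj M))

end Groth.DerivedCoh.KFlat
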