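import Groth.Agent.DerivedCoh.KFlat.Generic
import Mathlib.Algebra.Homology.BifunctorShift
import Mathlib.Algebra.Homology.HomotopyCategory.ShortExact
import Mathlib.Algebra.Homology.DerivedCategory.Basic

/-!
Mapping cones of K-flat complexes; factorization of morphisms out of a K-flat complex.
-/

universe w v u v₁ u₁ v₂ u₂

set_option backward.defeqAttrib.useBackward true
set_option backward.isDefEq.respectTransparency false

namespace Groth.DerivedCoh.KFlat

open CategoryTheory CategoryTheory.Limits HomologicalComplex Pretriangulated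

attribute [local instance] HasDerivedCategory.standard

variable {A₁ : Type u₁} [Category.{v₁} A₁] [Abelian A₁]
  {A₂ : Type u₂} [Category.{v₂} A₂] [Abelian A₂]
  {D : Type u} [Category.{v} D] [Abelian D]
  [∀ J : Type, HasColimitsOfShape (Discrete J) D]
  [∀ J : Type, HasExactColimitsOfShape (Discrete J) D]
  (F : A₁ ⥤ A₂ ⥤ D) [F.Additive] [∀ X, (F.obj X).Additive]

local notation "up" => ComplexShape.up ℤ

omit [∀ J : Type, HasExactColimitsOfShape (Discrete J) D] in
lemma acyclic_shift {K : CochainComplex D ℤ} (h : K.Acyclic) (n : ℤ) : (K⟦n⟧).Acyclic := fun i => by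
  rw [exactAt_iff_isZero_homology]
  exact (h (n + i)).isZero_homology.of_iso
    (((CochainComplex.shiftFunctor D n).obj K).homologyIsoSc' _ i _ rfl rfl ≪≫
      ((homologyFunctor D up 0).shiftIso n i (n + i) rfl).app K |>.symm.symm)

omit [∀ J : Type, HasExactColimitsOfShape (Discrete J) D] in
lemma IsKFlat.shift {E : CochainComplex A₂ ℤ} (h : IsKFlat F E) (n : ℤ) : IsKFlat F (E⟦n⟧) :=
  fun L hL i => (acyclic_shift (h L hL) n i).of_iso
    (((F.map₂CochainComplex.obj L).commShiftIso n).app E).symm

/-- `G → cone → M[1]` -/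
noncomputable abbrev coneSC {M G : CochainComplex A₂ ℤ} (φ : M ⟶ G) :
    ShortComplex (CochainComplex A₂ ℤ) :=
  ShortComplex.mk (CochainComplex.mappingCone.inr φ) (CochainComplex.mappingCone.triangle φ).mor₃
    (CochainComplex.mappingCone.inr_triangleδ φ)

/-- degreewise splitting of `G → cone → M[1]` -/
noncomputable def coneSplitting {M G : CochainComplex A₂ ℤ} (φ : M ⟶ G) (n : ℤ) :
    ((coneSC φ).map (eval A₂ up n)).Splitting where
  r := (CochainComplex.mappingCone.snd φ).v n n (add_zero n)
  s := -((M.shiftFunctorObjXIso 1 n (n + 1) rfl).hom ≫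
    (CochainComplex.mappingCone.inl φ).v (n + 1) n (by lia))
  f_r := by simp
  s_g := by simp
  id := by simp [CochainComplex.mappingCone.ext_from_iff _ (n + 1) n rfl]

/-- the cone of a morphism between K-flat complexes is K-flat -/
lemma IsKFlat.mappingCone {M G : CochainComplex A₂ ℤ} (φ : M ⟶ G) (hM : IsKFlat F M)
    (hG : IsKFlat F G) : IsKFlat F (CochainComplex.mappingCone φ) :=
  (isKFlat_two_of_three F (coneSC φ) fun Y q =>
    ((coneSplitting φ q).map (F.obj Y)).shortExact).2.1 hG (hM.shift F 1)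

lemma IsKFlat.biprod {K K' : CochainComplex A₂ ℤ} (h : IsKFlat F K) (h' : IsKFlat F K') :
    IsKFlat F (K ⊞ K') :=
  (isKFlat_two_of_three F (ShortComplex.mk biprod.inl biprod.snd biprod.inl_snd) fun Y q =>
    (((ShortComplex.Splitting.mk biprod.fst biprod.inr biprod.inl_fst biprod.inr_snd
      biprod.total).map (eval A₂ up q)).map (F.obj Y)).shortExact).2.1 h h'

omit [∀ J : Type, HasExactColimitsOfShape (Discrete J) D] in
/-- the flatness-type properties of the terms of a cone -/
lemma prop_mappingCone {M G : CochainComplex A₂ ℤ} (φ : M ⟶ G) (Φ : A₂ → Prop)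
    (hiso : ∀ {Y Y' : A₂}, (Y ≅ Y') → Φ Y → Φ Y') (hbiprod : ∀ {Y Y' : A₂}, Φ Y → Φ Y' → Φ (Y ⊞ Y'))
    (hM : ∀ n, Φ (M.X n)) (hG : ∀ n, Φ (G.X n)) (n : ℤ) :
    Φ ((CochainComplex.mappingCone φ).X n) :=
  hiso (homotopyCofiber.XIsoBiprod φ n (n + 1) rfl).symm (hbiprod (hM _) (hG _))

omit [∀ J : Type, HasExactColimitsOfShape (Discrete J) D] in
lemma quasiIso_mappingCone_map {M M' G G' : CochainComplex A₂ ℤ} (φ : M ⟶ G) (φ' : M' ⟶ G')
    (a : M ⟶ M') (b : G ⟶ G') (comm : φ ≫ b = a ≫ φ') [QuasiIso a] [QuasiIso b] :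
    QuasiIso (CochainComplex.mappingCone.map φ φ' a b comm) := by
  let α := DerivedCategory.Q.mapTriangle.map (CochainComplex.mappingCone.triangleMap φ φ' a b comm)
  have h : IsIso α.hom₃ := isIso₃_of_isIso₁₂ α (DerivedCategory.mappingCone_triangle_distinguished φ)
    (DerivedCategory.mappingCone_triangle_distinguished φ')
    (inferInstanceAs (IsIso (DerivedCategory.Q.map a)))
    (inferInstanceAs (IsIso (DerivedCategory.Q.map b)))
  exact (DerivedCategory.isIso_Q_map_iff_quasiIso A₂ _).1 h

variable {F}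

/-- a morphism out of a complex factors through a complex which is quasi-isomorphic to the target,
built from the source and two resolutions by cones -/
theorem exists_factor {A : Type u₂} [Category.{v₂} A] [Abelian A]
    (R : CochainComplex A ℤ ⥤ CochainComplex A ℤ) (π : R ⟶ 𝟭 (CochainComplex A ℤ))
    (hq : ∀ C, QuasiIso (π.app C)) (he : ∀ C, Epi (π.app C)) {K L : CochainComplex A ℤ} (a : K ⟶ L) :
    ∃ (M : CochainComplex A ℤ) (φ : R.obj M ⟶ K ⊞ R.obj L) (b : K ⟶ CochainComplex.mappingCone φ)
      (c : CochainComplex.mappingCone φ ⟶ L), QuasiIso c ∧ b ≫ c = a := by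
  let p : K ⊞ R.obj L ⟶ L := biprod.desc a (π.app L)
  have := he L
  have : Epi p := epi_of_epi_fac (biprod.inr_desc a (π.app L))
  let S := ShortComplex.mk (kernel.ι p) p (kernel.condition p)
  have hS : S.ShortExact := { exact := ShortComplex.exact_of_f_is_kernel _ (kernelIsKernel p) }
  have := hq (kernel p)
  have comm : (π.app (kernel p) ≫ kernel.ι p) ≫ 𝟙 _ = π.app (kernel p) ≫ S.f := Category.comp_id _
  let m := CochainComplex.mappingCone.map (π.app (kernel p) ≫ kernel.ι p) S.f (π.app (kernel p))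
    (𝟙 _) comm
  have : QuasiIso m := quasiIso_mappingCone_map _ _ _ _ comm
  have := CochainComplex.mappingCone.quasiIso_descShortComplex hS
  refine ⟨kernel p, π.app (kernel p) ≫ kernel.ι p, biprod.inl ≫ CochainComplex.mappingCone.inr _,
    m ≫ CochainComplex.mappingCone.descShortComplex S, inferInstance, ?_⟩
  have h1 : CochainComplex.mappingCone.inr (π.app (kernel p) ≫ kernel.ι p) ≫ m =
      CochainComplex.mappingCone.inr S.f := by
    refine HomologicalComplex.hom_ext _ _ fun n => ?_
    simp [m, CochainComplex.mappingCone.map]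
  rw [Category.assoc, reassoc_of% h1, CochainComplex.mappingCone.inr_descShortComplex]
  simp [S, p]

end Groth.DerivedCoh.KFlat
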