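import Groth.Agent.DerivedCoh.KFlat.Bounded
import Mathlib.Algebra.Homology.LeftResolution.Basic
import Mathlib.Algebra.Homology.Embedding.Extend
import Mathlib.Algebra.Homology.Embedding.ExtendHomology
import Mathlib.Algebra.Homology.HomologicalComplexAbelian
import Mathlib.Algebra.Homology.GrothendieckAbelian
import Mathlib.Algebra.Homology.Embedding.CochainComplex

/-!
Functorial resolutions of complexes by complexes built from a functorial cover of the objects.
-/

universe w v u

set_option backward.defeqAttrib.useBackward true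
set_option backward.isDefEq.respectTransparency false

namespace Groth.DerivedCoh.KFlat

open CategoryTheory CategoryTheory.Limits HomologicalComplex

/-- functorial epimorphisms onto every object, compatible with zero -/
structure Cover (A : Type u) [Category.{v} A] [Abelian A] where
  /-- the functor -/
  P : A ⥤ A
  /-- the cover -/
  π : P ⟶ 𝟭 A
  epi : ∀ M, Epi (π.app M)
  preservesZero : P.PreservesZeroMorphisms

namespace Cover

variable {A : Type u} [Category.{v} A] [Abelian A] (V : Cover A)

instance : V.P.PreservesZeroMorphisms := V.preservesZero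

local notation "up" => ComplexShape.up ℤ

/-- the induced cover on complexes -/
noncomputable def cx : Abelian.LeftResolution (𝟭 (CochainComplex A ℤ)) where
  F := V.P.mapHomologicalComplex up
  π :=
    { app := fun K =>
        { f := fun n => V.π.app (K.X n)
          comm' := fun i j _ => (V.π.naturality (K.d i j)).symm }
      naturality := fun K L f => by
        ext n
        exact V.π.naturality (f.f n) }
  epi_π_app K := by
    haveI : ∀ n, Epi (V.π.app (K.X n)) := fun n => V.epi _
    exact epi_of_epi_f _ fun n => inferInstanceAs (Epi (V.π.app (K.X n)))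

lemma chain_X_zero (C : CochainComplex A ℤ) {p : ℤ} (h : IsZero (C.X p)) :
    ∀ n, IsZero (((V.cx.chainComplex C).X n).X p)
  | 0 => ((eval A up p).mapIso (V.cx.chainComplexXZeroIso C)).isZero_iff.2 (V.P.map_isZero h)
  | 1 => by
    refine ((eval A up p).mapIso (V.cx.chainComplexXOneIso C)).isZero_iff.2 (V.P.map_isZero ?_)
    exact IsZero.of_mono ((kernel.ι (V.cx.π.app C)).f p) (V.P.map_isZero h)
  | n + 2 => by
    refine ((eval A up p).mapIso (V.cx.chainComplexXIso C n)).isZero_iff.2 (V.P.map_isZero ?_)
    exact IsZero.of_mono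
      ((kernel.ι ((𝟭 (CochainComplex A ℤ)).map ((V.cx.chainComplex C).d (n + 1) n))).f p)
      (chain_X_zero C h (n + 1))

lemma chain_X_cover (C : CochainComplex A ℤ) (p : ℤ) :
    ∀ n, ∃ Y, Nonempty (V.P.obj Y ≅ ((V.cx.chainComplex C).X n).X p)
  | 0 => ⟨_, ⟨((eval A up p).mapIso (V.cx.chainComplexXZeroIso C)).symm⟩⟩
  | 1 => ⟨_, ⟨((eval A up p).mapIso (V.cx.chainComplexXOneIso C)).symm⟩⟩
  | n + 2 => ⟨_, ⟨((eval A up p).mapIso (V.cx.chainComplexXIso C n)).symm⟩⟩

/-- the augmentation of the resolution -/
noncomputable def aug (C : CochainComplex A ℤ) :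
    V.cx.chainComplex C ⟶ (ChainComplex.single₀ (CochainComplex A ℤ)).obj C :=
  (ChainComplex.toSingle₀Equiv _ _).symm ⟨(V.cx.chainComplexXZeroIso C).hom ≫ V.cx.π.app C, by
    have := V.cx.map_chainComplex_d_1_0 C
    simp only [Functor.id_map] at this
    simp [this]⟩

lemma aug_f_zero (C : CochainComplex A ℤ) :
    (V.aug C).f 0 = (V.cx.chainComplexXZeroIso C).hom ≫ V.cx.π.app C :=
  ChainComplex.toSingle₀Equiv_symm_apply_f_zero _ _

lemma aug_naturality {C C' : CochainComplex A ℤ} (f : C ⟶ C') :
    V.cx.chainComplexMap f ≫ V.aug C' =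
      V.aug C ≫ (ChainComplex.single₀ (CochainComplex A ℤ)).map f := by
  refine HomologicalComplex.to_single_hom_ext ?_
  rw [comp_f, comp_f, aug_f_zero, aug_f_zero, Abelian.LeftResolution.chainComplexMap_f_0,
    ChainComplex.single₀_map_f_zero]
  simp only [Category.assoc, Iso.inv_hom_id_assoc]
  congr 1
  exact V.cx.π.naturality f

lemma quasiIso_aug (C : CochainComplex A ℤ) : QuasiIso (V.aug C) := by
  refine ⟨fun n => ?_⟩
  cases n with
  | zero =>
    rw [ChainComplex.quasiIsoAt₀_iff, ShortComplex.quasiIso_iff_of_zeros' _ (by simp) rfl rfl]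
    have h0 := V.aug_f_zero C
    constructor
    · have hx : (ShortComplex.mk ((V.cx.chainComplex C).d 1 0) ((V.aug C).f 0)
          ((V.aug C).comm 1 0 |>.symm.trans (by simp))).Exact := by
        have := V.cx.map_chainComplex_d_1_0 C
        simp only [Functor.id_map] at this
        have hk : (ShortComplex.mk (kernel.ι (V.cx.π.app C)) (V.cx.π.app C)
            (kernel.condition _)).Exact :=
          ShortComplex.exact_of_f_is_kernel _ (kernelIsKernel _)
        let φ : ShortComplex.mk ((V.cx.chainComplex C).d 1 0) ((V.aug C).f 0)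
            ((V.aug C).comm 1 0 |>.symm.trans (by simp)) ⟶
            ShortComplex.mk (kernel.ι (V.cx.π.app C)) (V.cx.π.app C) (kernel.condition _) :=
          { τ₁ := (V.cx.chainComplexXOneIso C).hom ≫ V.cx.π.app _
            τ₂ := (V.cx.chainComplexXZeroIso C).hom
            τ₃ := 𝟙 _
            comm₁₂ := by simp [this]
            comm₂₃ := by simpa using h0.symm }
        have : Epi φ.τ₁ := epi_comp _ _
        have : IsIso φ.τ₂ := by dsimp [φ]; infer_instance
        have : Mono φ.τ₃ := by dsimp [φ]; infer_instance
        exact (ShortComplex.exact_iff_of_epi_of_isIso_of_mono φ).2 hk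
      exact hx
    · change Epi ((V.aug C).f 0)
      rw [h0]
      exact epi_comp _ _
  | succ n =>
    rw [quasiIsoAt_iff_exactAt' _ _ (HomologicalComplex.ExactAt.of_isZero
      (isZero_single_obj_X _ _ _ _ (by lia)))]
    have h := V.cx.exactAt_map_chainComplex_succ C n
    exact h.of_iso (Iso.refl _)

/-- the resolution as a functor to bicomplexes -/
noncomputable def biFunctor : CochainComplex A ℤ ⥤ HomologicalComplex₂ A up up :=
  V.cx.chainComplexFunctor ⋙ ComplexShape.embeddingDownNat.extendFunctor _

/-- a complex as a bicomplex concentrated in degree zero -/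
noncomputable abbrev biSingle : CochainComplex A ℤ ⥤ HomologicalComplex₂ A up up :=
  HomologicalComplex.single (CochainComplex A ℤ) up 0

/-- the augmentation as bicomplexes -/
noncomputable def biAugApp (C : CochainComplex A ℤ) : V.biFunctor.obj C ⟶ biSingle.obj C :=
  extendMap (V.aug C) ComplexShape.embeddingDownNat ≫
    (extendSingleIso ComplexShape.embeddingDownNat C 0 0 (by simp)).hom

/-- the augmentation as a natural transformation -/
noncomputable def biAug : V.biFunctor ⟶ biSingle where
  app := V.biAugApp
  naturality {C C'} f := by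
    refine HomologicalComplex.to_single_hom_ext ?_
    have e : ComplexShape.embeddingDownNat.f 0 = 0 := by simp
    have h0 : (V.cx.chainComplexMap f).f 0 ≫ (V.aug C').f 0 = (V.aug C).f 0 ≫ f := by
      rw [← comp_f, V.aug_naturality, comp_f, ChainComplex.single₀_map_f_zero]
    simp only [biFunctor, biAugApp, Functor.comp_obj, Functor.comp_map, comp_f,
      ComplexShape.Embedding.extendFunctor_map, Abelian.LeftResolution.chainComplexFunctor,
      single_map_f_self, extendSingleIso_hom_f _ _ _ _ e, extendMap_f _ _ e, Category.assoc,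
      Iso.inv_hom_id_assoc]
    rw [reassoc_of% h0]
    simp

lemma quasiIso_biAug (C : CochainComplex A ℤ) : QuasiIso (V.biAug.app C) := by
  have := V.quasiIso_aug C
  change QuasiIso (extendMap _ _ ≫ _)
  infer_instance

lemma epi_biAug (C : CochainComplex A ℤ) : Epi (V.biAug.app C) := by
  refine epi_of_epi_f _ fun q => ?_
  by_cases hq : q = 0
  · subst hq
    have e : ComplexShape.embeddingDownNat.f 0 = 0 := by simp
    have : Epi ((V.aug C).f 0) := by
      rw [aug_f_zero]
      exact epi_comp _ _
    simp only [biAug, biAugApp, comp_f, extendSingleIso_hom_f _ _ _ _ e, extendMap_f _ _ e]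
    infer_instance
  · exact (isZero_single_obj_X up 0 C q hq).epi _

lemma biFunctor_X_zero (C : CochainComplex A ℤ) {p q : ℤ} (h : IsZero (C.X p) ∨ 0 < q) :
    IsZero (((V.biFunctor.obj C).X q).X p) := by
  by_cases hq : ∃ n, ComplexShape.embeddingDownNat.f n = q
  · obtain ⟨n, hn⟩ := hq
    have hp : IsZero (C.X p) := h.resolve_right (by simp at hn; lia)
    exact ((eval A up p).mapIso (extendXIso _ _ hn)).isZero_iff.2 (V.chain_X_zero C hp n)
  · exact (eval A up p).map_isZero (isZero_extend_X _ _ _ (by simpa using hq))

lemma biFunctor_X_cover (C : CochainComplex A ℤ) (p q : ℤ) :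
    IsZero (((V.biFunctor.obj C).X q).X p) ∨
      ∃ Y, Nonempty (V.P.obj Y ≅ ((V.biFunctor.obj C).X q).X p) := by
  by_cases hq : ∃ n, ComplexShape.embeddingDownNat.f n = q
  · obtain ⟨n, hn⟩ := hq
    obtain ⟨Y, ⟨e⟩⟩ := V.chain_X_cover C p n
    exact .inr ⟨Y, ⟨e ≪≫ ((eval A up p).mapIso (extendXIso _ _ hn)).symm⟩⟩
  · exact .inl ((eval A up p).map_isZero (isZero_extend_X _ _ _ (by simpa using hq)))

section total

variable [∀ J : Type, HasColimitsOfShape (Discrete J) A]

/-- the total complex of a bicomplex concentrated in degree zero -/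
noncomputable def totalSingleXIso (C : CochainComplex A ℤ) (n : ℤ) :
    ((biSingle.obj C).total up).X n ≅ C.X n where
  hom := (biSingle.obj C).totalDesc fun q p h =>
    if hq : q = 0 then
      (singleObjXIsoOfEq up 0 C q hq).hom.f p ≫ eqToHom (by subst hq; simp at h; rw [h])
    else 0
  inv := (singleObjXSelf up 0 C).inv.f n ≫ (biSingle.obj C).ιTotal up 0 n n (by simp)
  hom_inv_id := by
    refine HomologicalComplex₂.total.hom_ext _ fun q p h => ?_
    rw [HomologicalComplex₂.ι_totalDesc_assoc, Category.comp_id]
    by_cases hq : q = 0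
    · subst hq
      obtain rfl : n = p := by simp at h; lia
      simp [singleObjXSelf, ← comp_f_assoc]
    · exact ((eval A up p).map_isZero (isZero_single_obj_X up 0 C q hq)).eq_of_src _ _
  inv_hom_id := by simp [singleObjXSelf, ← comp_f]

/-- the total complex of a complex concentrated in degree zero -/
noncomputable def totalSingleIso :
    biSingle ⋙ HomologicalComplex₂.totalFunctor A up up up ≅ 𝟭 (CochainComplex A ℤ) :=
  NatIso.ofComponents
    (fun C => HomologicalComplex.Hom.isoOfComponents (totalSingleXIso C) fun n n' hn => by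
      obtain rfl : n + 1 = n' := hn
      change (totalSingleXIso C n).hom ≫ C.d n (n + 1) =
        ((biSingle.obj C).D₁ up n (n + 1) + (biSingle.obj C).D₂ up n (n + 1)) ≫
          (totalSingleXIso C (n + 1)).hom
      refine HomologicalComplex₂.total.hom_ext _ fun q p h => ?_
      by_cases hq : q = 0
      · subst hq
        obtain rfl : n = p := by simp at h; lia
        rw [← Category.assoc, ← Category.assoc, Preadditive.comp_add, HomologicalComplex₂.ι_D₁,
          HomologicalComplex₂.ι_D₂,
          (biSingle.obj C).d₁_eq up (show (up).Rel 0 1 by simp) n (n + 1) (by simp; lia),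
          (biSingle.obj C).d₂_eq up 0 (show (up).Rel n (n + 1) by simp) (n + 1) (by simp)]
        simp [totalSingleXIso, singleObjXSelf]
      · exact ((eval A up p).map_isZero (isZero_single_obj_X up 0 C q hq)).eq_of_src _ _)
    (fun {C C'} f => by
      refine HomologicalComplex.hom_ext _ _ fun n =>
        HomologicalComplex₂.total.hom_ext _ fun q p h => ?_
      by_cases hq : q = 0
      · subst hq
        obtain rfl : n = p := by simp at h; lia
        change (biSingle.obj C).ιTotal up 0 n n h ≫
            (HomologicalComplex₂.total.map (biSingle.map f) up).f n ≫ (totalSingleXIso C' n).hom =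
          (biSingle.obj C).ιTotal up 0 n n h ≫ (totalSingleXIso C n).hom ≫ f.f n
        simp [totalSingleXIso, singleObjXSelf, ← comp_f, ← comp_f_assoc]
        congr 1
        simp [single, singleObjXIsoOfEq]
      · exact ((eval A up p).map_isZero (isZero_single_obj_X up 0 C q hq)).eq_of_src _ _)

/-- the resolution of bounded above complexes -/
noncomputable def res : CochainComplex A ℤ ⥤ CochainComplex A ℤ :=
  V.biFunctor ⋙ HomologicalComplex₂.totalFunctor A up up up

/-- its augmentation -/
noncomputable def resAug : V.res ⟶ 𝟭 (CochainComplex A ℤ) :=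
  Functor.whiskerRight V.biAug _ ≫ totalSingleIso.hom

lemma res_X_zero (C : CochainComplex A ℤ) (b : ℤ) (h0 : ∀ p, b < p → IsZero (C.X p)) (n : ℤ)
    (hn : b < n) : IsZero ((V.res.obj C).X n) := by
  rw [IsZero.iff_id_eq_zero]
  refine HomologicalComplex₂.total.hom_ext _ fun q p h => ?_
  refine (V.biFunctor_X_zero C ?_).eq_of_src _ _
  simp at h
  rcases le_or_gt q 0 with hq | hq
  · exact .inl (h0 p (by lia))
  · exact .inr hq

lemma res_X_prop (Φ : A → Prop) (hP : ∀ Y, Φ (V.P.obj Y)) (hzero : ∀ Y, IsZero Y → Φ Y)
    (hiso : ∀ {Y Y' : A}, (Y ≅ Y') → Φ Y → Φ Y')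
    (hsigma : ∀ (ι : Type) (N : ι → A), (∀ i, Φ (N i)) → Φ (∐ N))
    (C : CochainComplex A ℤ) (n : ℤ) : Φ ((V.res.obj C).X n) := by
  refine hsigma _ _ fun i => ?_
  rcases V.biFunctor_X_cover C i.1.2 i.1.1 with h | ⟨Y, ⟨e⟩⟩
  · exact hzero _ h
  · exact hiso e (hP Y)

variable [∀ J : Type, HasExactColimitsOfShape (Discrete J) A]

lemma epi_resAug (C : CochainComplex A ℤ) : Epi (V.resAug.app C) := by
  have := V.epi_biAug C
  let S := ShortComplex.mk _ _ (kernel.condition (V.biAug.app C))
  have hS : S.ShortExact := { exact := ShortComplex.exact_of_f_is_kernel _ (kernelIsKernel _) }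
  have := (shortExact_total S fun q p => (hS.map_of_exact (eval _ up q)).map_of_exact (eval A up p)).epi_g
  exact epi_comp' this inferInstance

variable [HasColimitsOfShape ℕ A] [HasExactColimitsOfShape ℕ A]

lemma quasiIso_resAug (C : CochainComplex A ℤ) (b : ℤ) (h0 : ∀ p, b < p → IsZero (C.X p)) :
    QuasiIso (V.resAug.app C) := by
  have := V.epi_biAug C
  let S := ShortComplex.mk _ _ (kernel.condition (V.biAug.app C))
  have hS : S.ShortExact := { exact := ShortComplex.exact_of_f_is_kernel _ (kernelIsKernel _) }
  have hN : S.X₁.Acyclic := fun i => hS.exactAt_X₁ i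
    (by have := V.quasiIso_biAug C; change Mono (homologyMap (V.biAug.app C) i); infer_instance)
    (fun j _ => by have := V.quasiIso_biAug C; change Epi (homologyMap (V.biAug.app C) j); infer_instance)
  have hT : (S.map (HomologicalComplex₂.totalFunctor A up up up)).ShortExact :=
    shortExact_total S fun q p => (hS.map_of_exact (eval _ up q)).map_of_exact (eval A up p)
  have hN' : (S.map (HomologicalComplex₂.totalFunctor A up up up)).X₁.Acyclic := by
    refine acyclic_total_of_rows S.X₁ b (fun q p hp => ?_) fun p i => (hN i).map (eval A up p)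
    have : Mono ((S.f.f q).f p) := ((hS.map_of_exact (eval _ up q)).map_of_exact (eval A up p)).mono_f
    exact IsZero.of_mono ((S.f.f q).f p) (V.biFunctor_X_zero C (.inl (h0 p hp)))
  have := quasiIso_g_of_acyclic hT hN'
  have h1 : QuasiIso ((HomologicalComplex₂.totalFunctor A up up up).map (V.biAug.app C)) := this
  have h2 : QuasiIso (totalSingleIso.hom.app C) := inferInstance
  let φ := (HomologicalComplex₂.totalFunctor A up up up).map (V.biAug.app C)
  change QuasiIso (φ ≫ totalSingleIso.hom.app C)
  have : QuasiIso φ := h1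
  exact quasiIso_comp φ (totalSingleIso.hom.app C)

end total

end Cover

end Groth.DerivedCoh.KFlat
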