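import Groth.Agent.DerivedCoh.KFlat.Bounded
import Mathlib.Algebra.Homology.Bifunctor
import Mathlib.Algebra.Homology.BifunctorFlip
import Mathlib.Algebra.Homology.BifunctorHomotopy
import Mathlib.CategoryTheory.Abelian.Exact

/-!
K-flat complexes for a bifunctor of abelian categories.
-/

universe w v u v₁ u₁ v₂ u₂

set_option backward.defeqAttrib.useBackward true
set_option backward.isDefEq.respectTransparency false

namespace Groth.DerivedCoh.KFlat

open CategoryTheory CategoryTheory.Limits HomologicalComplex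

variable {A₁ : Type u₁} [Category.{v₁} A₁] [Abelian A₁]
  {A₂ : Type u₂} [Category.{v₂} A₂] [Abelian A₂]
  {D : Type u} [Category.{v} D] [Abelian D]
  (F : A₁ ⥤ A₂ ⥤ D) [F.Additive] [∀ X, (F.obj X).Additive]

local notation "up" => ComplexShape.up ℤ

instance flipObjAdditive (N : A₂) : (F.flip.obj N).Additive where
  map_add {X Y f g} := congr_app (F.map_add (f := f) (g := g)) N

instance flipAdditive : F.flip.Additive where
  map_add {X Y f g} := by
    ext Z
    exact (F.obj Z).map_add

/-- a flat object: tensoring with it is exact -/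
def Flat (N : A₂) : Prop :=
  ∀ S : ShortComplex A₁, S.ShortExact → (S.map (F.flip.obj N)).ShortExact

lemma flat_of_isZero {N : A₂} (h : IsZero N) : Flat F N := fun S _ =>
  { exact := ShortComplex.exact_of_isZero_X₂ _ ((F.obj S.X₂).map_isZero h)
    mono_f := ((F.obj S.X₁).map_isZero h).mono _
    epi_g := ((F.obj S.X₃).map_isZero h).epi _ }

variable {F} in
lemma Flat.of_iso {N N' : A₂} (h : Flat F N) (e : N ≅ N') : Flat F N' := fun S hS =>
  ShortComplex.shortExact_of_iso (S.mapNatIso (F.flip.mapIso e)) (h S hS)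

variable {F} in
lemma Flat.acyclic {N : A₂} (h : Flat F N) {L : CochainComplex A₁ ℤ} (hL : L.Acyclic) :
    (((F.flip.obj N).mapHomologicalComplex up).obj L).Acyclic := by
  have : (F.flip.obj N).PreservesHomology := by
    have := ((F.flip.obj N).exact_tfae.out 0 2).1 h
    exact this
  intro i
  exact (hL i).map (F.flip.obj N)

variable [∀ J : Type, HasColimitsOfShape (Discrete J) D]

/-- the tensor product of two complexes -/
noncomputable abbrev tot (L : CochainComplex A₁ ℤ) (E : CochainComplex A₂ ℤ) :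
    CochainComplex D ℤ :=
  mapBifunctor L E F up

/-- a K-flat complex -/
def IsKFlat (E : CochainComplex A₂ ℤ) : Prop :=
  ∀ L : CochainComplex A₁ ℤ, L.Acyclic → (tot F L E).Acyclic

/-- the bicomplex functor -/
noncomputable abbrev Bi : CochainComplex A₁ ℤ ⥤ CochainComplex A₂ ℤ ⥤ HomologicalComplex₂ D up up :=
  F.mapBifunctorHomologicalComplex up up

/-- `E ↦ L ⊗ E` -/
noncomputable abbrev totR (L : CochainComplex A₁ ℤ) : CochainComplex A₂ ℤ ⥤ CochainComplex D ℤ :=
  F.map₂CochainComplex.obj L

/-- `L ↦ L ⊗ E` -/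
noncomputable abbrev totL (E : CochainComplex A₂ ℤ) : CochainComplex A₁ ℤ ⥤ CochainComplex D ℤ :=
  F.map₂CochainComplex.flip.obj E

/-- tensoring on the left factors through bicomplexes -/
noncomputable def totRIso (L : CochainComplex A₁ ℤ) :
    totR F L ≅ (Bi F).obj L ⋙ HomologicalComplex₂.totalFunctor D up up up :=
  NatIso.ofComponents (fun E => Iso.refl _) (fun {E E'} g => by simp [mapBifunctorMap])

/-- tensoring on the right factors through bicomplexes -/
noncomputable def totLIso (E : CochainComplex A₂ ℤ) :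
    totL F E ≅ (Bi F).flip.obj E ⋙ HomologicalComplex₂.totalFunctor D up up up :=
  NatIso.ofComponents (fun L => Iso.refl _) (fun {L L'} g => by simp [mapBifunctorMap])

instance (L : CochainComplex A₁ ℤ) : ((Bi F).obj L).Additive where
  map_add {E E' f g} := by
    refine HomologicalComplex.hom_ext _ _ fun p => HomologicalComplex.hom_ext _ _ fun q => ?_
    exact (F.obj (L.X p)).map_add

instance (E : CochainComplex A₂ ℤ) : ((Bi F).flip.obj E).Additive where
  map_add {L L' f g} := by
    refine HomologicalComplex.hom_ext _ _ fun p => HomologicalComplex.hom_ext _ _ fun q => ?_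
    exact congr_app (F.map_add (f := f.f p) (g := g.f p)) (E.X q)

instance (L : CochainComplex A₁ ℤ) : (totR F L).Additive :=
  Functor.additive_of_iso (totRIso F L).symm

instance (E : CochainComplex A₂ ℤ) : (totL F E).Additive :=
  Functor.additive_of_iso (totLIso F E).symm

variable [∀ J : Type, HasExactColimitsOfShape (Discrete J) D]

lemma shortExact_totR (L : CochainComplex A₁ ℤ) (S : ShortComplex (CochainComplex A₂ ℤ))
    (h : ∀ p q, ((S.map (eval A₂ up q)).map (F.obj (L.X p))).ShortExact) :
    (S.map (totR F L)).ShortExact :=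
  ShortComplex.shortExact_of_iso (S.mapNatIso (totRIso F L)).symm
    (shortExact_total (S.map ((Bi F).obj L)) fun p q => h p q)

lemma shortExact_totL (E : CochainComplex A₂ ℤ) (S : ShortComplex (CochainComplex A₁ ℤ))
    (h : ∀ p q, ((S.map (eval A₁ up p)).map (F.flip.obj (E.X q))).ShortExact) :
    (S.map (totL F E)).ShortExact :=
  ShortComplex.shortExact_of_iso (S.mapNatIso (totLIso F E)).symm
    (shortExact_total (S.map ((Bi F).flip.obj E)) fun p q => h p q)

variable {F} in
/-- tensoring with a K-flat complex preserves quasi-isomorphisms -/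
theorem IsKFlat.quasiIso_totL {E : CochainComplex A₂ ℤ} (hE : IsKFlat F E)
    {L L' : CochainComplex A₁ ℤ} (f : L ⟶ L') [QuasiIso f] : QuasiIso ((totL F E).map f) :=
  quasiIso_map_of_acyclic (totL F E) hE
    (fun S hS => shortExact_totL F E S fun p q => ((hS p).some.map (F.flip.obj (E.X q))).shortExact)
    (fun K L f g h => ⟨mapBifunctorMapHomotopy₁ h (𝟙 E) F up⟩) f

omit [∀ J : Type, HasExactColimitsOfShape (Discrete J) D] in
lemma isKFlat_flip_iff (K : CochainComplex A₁ ℤ) :
    IsKFlat F.flip K ↔ ∀ M : CochainComplex A₂ ℤ, M.Acyclic → (tot F K M).Acyclic :=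
  ⟨fun h M hM i => (h M hM i).of_iso (mapBifunctorFlipIso K M F up),
    fun h M hM i => (h M hM i).of_iso (mapBifunctorFlipIso K M F up).symm⟩

/-- tensoring on the left with a complex K-flat for the flip preserves quasi-isomorphisms -/
theorem quasiIso_totR {K : CochainComplex A₁ ℤ} (hK : IsKFlat F.flip K)
    {E E' : CochainComplex A₂ ℤ} (α : E ⟶ E') [QuasiIso α] : QuasiIso ((totR F K).map α) :=
  quasiIso_map_of_acyclic (totR F K) ((isKFlat_flip_iff F K).1 hK)
    (fun S hS => shortExact_totR F K S fun p q => ((hS q).some.map (F.obj (K.X p))).shortExact)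
    (fun M N f g h => ⟨mapBifunctorMapHomotopy₂ (𝟙 K) h F up⟩) α

variable {F} in
/-- a quasi-isomorphism of K-flat complexes stays one after tensoring with any complex which has a
resolution which is K-flat for the flipped bifunctor -/
theorem IsKFlat.quasiIso_totR {E E' : CochainComplex A₂ ℤ} (hE : IsKFlat F E) (hE' : IsKFlat F E')
    (α : E ⟶ E') [QuasiIso α] {K L : CochainComplex A₁ ℤ} (π : K ⟶ L) [QuasiIso π]
    (hK : IsKFlat F.flip K) : QuasiIso ((totR F L).map α) := by
  have h₁ : QuasiIso ((totL F E).map π) := hE.quasiIso_totL π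
  have h₂ : QuasiIso ((totL F E').map π) := hE'.quasiIso_totL π
  have h₃ : QuasiIso ((totR F K).map α) := KFlat.quasiIso_totR F hK α
  have e : (totR F K).map α ≫ (totL F E').map π = (totL F E).map π ≫ (totR F L).map α :=
    (F.map₂CochainComplex.map π).naturality α
  have : QuasiIso ((totL F E).map π ≫ (totR F L).map α) := e ▸ inferInstance
  exact quasiIso_of_comp_left ((totL F E).map π) _

variable [HasColimitsOfShape ℕ D] [HasExactColimitsOfShape ℕ D]

/-- a bounded above complex of flat objects is K-flat -/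
theorem isKFlat_of_flat (E : CochainComplex A₂ ℤ) (b : ℤ) (h0 : ∀ q, b < q → IsZero (E.X q))
    (hflat : ∀ q, Flat F (E.X q)) : IsKFlat F E := fun L hL =>
  acyclic_total_of_rows (((Bi F).obj L).obj E) b
    (fun p q hq => (F.obj (L.X p)).map_isZero (h0 q hq))
    fun q i => ((hflat q).acyclic hL i)

omit [HasColimitsOfShape ℕ D] [HasExactColimitsOfShape ℕ D]

/-- two out of three -/
theorem isKFlat_two_of_three (S : ShortComplex (CochainComplex A₂ ℤ))
    (h : ∀ (Y : A₁) (q : ℤ), ((S.map (eval A₂ up q)).map (F.obj Y)).ShortExact) :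
    (IsKFlat F S.X₁ → IsKFlat F S.X₂ → IsKFlat F S.X₃) ∧
    (IsKFlat F S.X₁ → IsKFlat F S.X₃ → IsKFlat F S.X₂) ∧
    (IsKFlat F S.X₂ → IsKFlat F S.X₃ → IsKFlat F S.X₁) :=
  have hS := fun L : CochainComplex A₁ ℤ => shortExact_totR F L S fun p q => h (L.X p) q
  ⟨fun h₁ h₂ L hL => acyclic₃ (hS L) (h₁ L hL) (h₂ L hL),
    fun h₁ h₃ L hL => acyclic₂ (hS L) (h₁ L hL) (h₃ L hL),
    fun h₂ h₃ L hL => acyclic₁ (hS L) (h₂ L hL) (h₃ L hL)⟩

omit [∀ J : Type, HasExactColimitsOfShape (Discrete J) D]

variable {F} in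
lemma IsKFlat.of_iso {E E' : CochainComplex A₂ ℤ} (h : IsKFlat F E) (e : E ≅ E') :
    IsKFlat F E' := fun L hL i => (h L hL i).of_iso ((totR F L).mapIso e)

/-- a colimit of K-flat complexes is K-flat -/
theorem isKFlat_of_isColimit {J : Type w} [Category J] [HasColimitsOfShape J D]
    [HasExactColimitsOfShape J D] [∀ Y, PreservesColimitsOfShape J (F.obj Y)]
    (X : J ⥤ CochainComplex A₂ ℤ) (c : Cocone X) (hc : ∀ q, IsColimit ((eval A₂ up q).mapCocone c))
    (h : ∀ j, IsKFlat F (X.obj j)) : IsKFlat F c.pt := fun L hL => by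
  have hb : IsColimit ((HomologicalComplex₂.totalFunctor D up up up).mapCocone
      (((Bi F).obj L).mapCocone c)) :=
    isColimitTotal _ fun p q => isColimitOfPreserves (F.obj (L.X p)) (hc q)
  intro i
  exact (acyclic_colimit J (X ⋙ (Bi F).obj L ⋙ HomologicalComplex₂.totalFunctor D up up up)
    (fun j => h j L hL) i).of_iso ((colimit.isColimit _).coconePointUniqueUpToIso hb)

end Groth.DerivedCoh.KFlat
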