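import Groth.Agent.DerivedCoh.KFlat.Resolution
import Groth.Agent.DerivedCoh.KFlat.Generic

/-!
Functorial resolutions of unbounded complexes, as colimits of resolutions of truncations.
-/

universe w v u u₁ v₁

set_option backward.defeqAttrib.useBackward true
set_option backward.isDefEq.respectTransparency false

namespace Groth.DerivedCoh.KFlat

open CategoryTheory CategoryTheory.Limits HomologicalComplex

variable {A : Type u} [Category.{v} A] [Abelian A]

local notation "up" => ComplexShape.up ℤ

lemma isIso_ιTruncLE_f (K : CochainComplex A ℤ) (n q : ℤ) (h : q < n) :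
    IsIso ((K.ιTruncLE n).f q) := by
  obtain ⟨i, rfl⟩ : ∃ i : ℕ, n - i = q := ⟨(n - q).toNat, by lia⟩
  have hi : ¬ (ComplexShape.embeddingUpIntLE n).BoundaryLE i := fun hb => by
    rw [ComplexShape.boundaryLE_embeddingUpIntLE_iff] at hb
    lia
  have e : (ComplexShape.embeddingUpIntLE n).op.f i = n - i := by simp
  have := K.op.isIso_restrictionToTruncGE' (ComplexShape.embeddingUpIntLE n).op i (by simpa using hi)
  have : IsIso ((K.op.πTruncGE (ComplexShape.embeddingUpIntLE n).op).f (n - i)) := by
    dsimp [πTruncGE]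
    rw [(ComplexShape.embeddingUpIntLE n).op.isIso_liftExtend_f_iff _ _ e]
    infer_instance
  change IsIso ((K.op.πTruncGE (ComplexShape.embeddingUpIntLE n).op).f (n - i)).unop
  infer_instance

/-- a truncation mapped to a higher truncation -/
noncomputable def truncStep (K : CochainComplex A ℤ) (m : ℤ) : K.truncLE m ⟶ K.truncLE (m + 1) :=
  have : (K.truncLE m).IsStrictlyLE (m + 1) :=
    (K.truncLE m).isStrictlyLE_of_le m (m + 1) (by lia)
  have := ((K.truncLE m).isIso_ιTruncLE_iff (m + 1)).2 this
  inv ((K.truncLE m).ιTruncLE (m + 1)) ≫ CochainComplex.truncLEMap (K.ιTruncLE m) (m + 1)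

lemma truncStep_ι (K : CochainComplex A ℤ) (m : ℤ) :
    truncStep K m ≫ K.ιTruncLE (m + 1) = K.ιTruncLE m := by
  simp [truncStep]

instance (K : CochainComplex A ℤ) (m : ℤ) : Mono (K.ιTruncLE m) :=
  inferInstanceAs (Mono (HomologicalComplex.ιTruncLE K _))

lemma truncStep_naturality {K L : CochainComplex A ℤ} (f : K ⟶ L) (m : ℤ) :
    CochainComplex.truncLEMap f m ≫ truncStep L m =
      truncStep K m ≫ CochainComplex.truncLEMap f (m + 1) := by
  rw [← cancel_mono (L.ιTruncLE (m + 1)), Category.assoc, truncStep_ι, Category.assoc,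
    CochainComplex.ιTruncLE_naturality, CochainComplex.ιTruncLE_naturality, ← Category.assoc,
    truncStep_ι]

/-- the truncation functor -/
noncomputable def truncF (n : ℕ) : CochainComplex A ℤ ⥤ CochainComplex A ℤ where
  obj K := K.truncLE (n : ℤ)
  map f := CochainComplex.truncLEMap f (n : ℤ)
  map_id K := by rw [← cancel_mono (K.ιTruncLE (n : ℤ)), CochainComplex.ιTruncLE_naturality]; simp
  map_comp {K L M} f g := by
    rw [← cancel_mono (M.ιTruncLE (n : ℤ)), CochainComplex.ιTruncLE_naturality, Category.assoc,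
      CochainComplex.ιTruncLE_naturality, CochainComplex.ιTruncLE_naturality_assoc]

/-- the sequence of truncation functors -/
noncomputable def truncSeq : ℕ ⥤ (CochainComplex A ℤ ⥤ CochainComplex A ℤ) :=
  Functor.ofSequence (X := truncF) fun n =>
    { app := fun K => truncStep K (n : ℤ)
      naturality := fun K L f => truncStep_naturality f (n : ℤ) }

/-- its cocone -/
noncomputable def truncCocone : Cocone (truncSeq (A := A)) where
  pt := 𝟭 _
  ι := NatTrans.ofSequence
    (fun n => { app := fun K => K.ιTruncLE (n : ℤ)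
                naturality := fun K L f => CochainComplex.ιTruncLE_naturality f (n : ℤ) })
    fun n => by
      ext1; funext K
      simp [truncSeq]
      exact truncStep_ι K n

/-- truncations exhaust a complex -/
noncomputable def isColimitTrunc (K : CochainComplex A ℤ) :
    IsColimit (((evaluation _ _).obj K).mapCocone truncCocone) :=
  isColimitOfEval _ _ fun q => isColimitOfEventuallyIso _ (q + 1).toNat fun n hn =>
    isIso_ιTruncLE_f K n q (by lia)

variable [∀ J : Type, HasColimitsOfShape (Discrete J) A] [HasColimitsOfShape ℕ A]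

namespace Cover

variable (V : Cover A)

/-- the sequence of resolutions of truncations -/
noncomputable def seqF : CochainComplex A ℤ ⥤ (ℕ ⥤ CochainComplex A ℤ) :=
  truncSeq.flip ⋙ (Functor.whiskeringRight ℕ _ _).obj V.res

/-- its map to the truncations -/
noncomputable def seqAug : V.seqF ⟶ truncSeq.flip :=
  Functor.whiskerLeft truncSeq.flip ((Functor.whiskeringRight ℕ _ _).map V.resAug) ≫
    { app := fun K => (Functor.rightUnitor _).hom }

/-- the colimit of truncations, mapped to the complex -/
noncomputable def truncDesc : (truncSeq (A := A)).flip ⋙ colim ⟶ 𝟭 (CochainComplex A ℤ) where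
  app K := colimit.desc _ (((evaluation _ _).obj K).mapCocone truncCocone)
  naturality K L f := by
    refine colimit.hom_ext fun n => ?_
    simp only [Functor.comp_obj, Functor.comp_map, Functor.id_obj, Functor.id_map]
    erw [ι_colimMap_assoc, colimit.ι_desc, colimit.ι_desc_assoc]
    exact (truncCocone.ι.app n).naturality f

instance isIso_truncDesc (K : CochainComplex A ℤ) : IsIso ((truncDesc (A := A)).app K) :=
  ((colimit.isColimit _).coconePointUniqueUpToIso (isColimitTrunc K)).isIso_hom

/-- the resolution -/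
noncomputable def resol : CochainComplex A ℤ ⥤ CochainComplex A ℤ := V.seqF ⋙ colim

/-- its augmentation -/
noncomputable def resolAug : V.resol ⟶ 𝟭 (CochainComplex A ℤ) :=
  Functor.whiskerRight V.seqAug colim ≫ truncDesc

variable [∀ J : Type, HasExactColimitsOfShape (Discrete J) A] [HasExactColimitsOfShape ℕ A]

lemma resolAug_spec (C : CochainComplex A ℤ) :
    QuasiIso (V.resolAug.app C) ∧ Epi (V.resolAug.app C) := by
  let φ := V.seqAug.app C
  have hφ : ∀ n, QuasiIso (φ.app n) ∧ Epi (φ.app n) := fun n => by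
    let K := C.truncLE (n : ℤ)
    have h0 : ∀ p, (n : ℤ) < p → IsZero (K.X p) := fun p hp => K.isZero_of_isStrictlyLE (n : ℤ) p hp
    have h1 := V.quasiIso_resAug K n h0
    have h2 := V.epi_resAug K
    change QuasiIso (V.resAug.app K ≫ 𝟙 _) ∧ Epi (V.resAug.app K ≫ 𝟙 _)
    rw [Category.comp_id]
    exact ⟨h1, h2⟩
  have : ∀ n, Epi (φ.app n) := fun n => (hφ n).2
  have : Epi φ := NatTrans.epi_of_epi_app φ
  let S := ShortComplex.mk _ _ (kernel.condition φ)
  have hS : S.ShortExact := { exact := ShortComplex.exact_of_f_is_kernel _ (kernelIsKernel φ) }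
  have hS' := hS.map_of_exact (colim (J := ℕ) (C := CochainComplex A ℤ))
  have hz : ∀ n, ((kernel φ).obj n).Acyclic := fun n i => by
    have := (hφ n).1
    exact (hS.map_of_exact ((evaluation ℕ _).obj n)).exactAt_X₁ i
      (by change Mono (homologyMap (φ.app n) i); infer_instance)
      (fun j _ => by change Epi (homologyMap (φ.app n) j); infer_instance)
  have h1 := quasiIso_g_of_acyclic hS' (acyclic_colimit ℕ (kernel φ) hz)
  have h2 := hS'.epi_g
  let ψ := colim.map φ
  have : QuasiIso ψ := h1
  have : Epi ψ := h2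
  change QuasiIso (ψ ≫ truncDesc.app C) ∧ Epi (ψ ≫ truncDesc.app C)
  exact ⟨inferInstance, epi_comp _ _⟩

omit [∀ J : Type, HasExactColimitsOfShape (Discrete J) A] [HasExactColimitsOfShape ℕ A] in
lemma resol_X_prop (Φ : A → Prop) (hP : ∀ Y, Φ (V.P.obj Y)) (hzero : ∀ Y, IsZero Y → Φ Y)
    (hiso : ∀ {Y Y' : A}, (Y ≅ Y') → Φ Y → Φ Y')
    (hsigma : ∀ (ι : Type) (N : ι → A), (∀ i, Φ (N i)) → Φ (∐ N))
    (hcolim : ∀ G : ℕ ⥤ A, (∀ n, Φ (G.obj n)) → Φ (colimit G))
    (C : CochainComplex A ℤ) (q : ℤ) : Φ ((V.resol.obj C).X q) :=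
  hiso (preservesColimitIso (eval A up q) (V.seqF.obj C)).symm
    (hcolim _ fun n => V.res_X_prop Φ hP hzero hiso hsigma _ q)

section kflat

variable {A₁ : Type u₁} [Category.{v₁} A₁] [Abelian A₁] {D : Type w} [Category.{v} D] [Abelian D]
  [∀ J : Type, HasColimitsOfShape (Discrete J) D]
  [∀ J : Type, HasExactColimitsOfShape (Discrete J) D]
  [HasColimitsOfShape ℕ D] [HasExactColimitsOfShape ℕ D]
  (F : A₁ ⥤ A ⥤ D) [F.Additive] [∀ X, (F.obj X).Additive]
  [∀ Y, PreservesColimitsOfShape ℕ (F.obj Y)]

omit [∀ J : Type, HasExactColimitsOfShape (Discrete J) A] [HasExactColimitsOfShape ℕ A] in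
lemma isKFlat_resol (Φ : A → Prop) (hΦ : ∀ Y, Φ Y → Flat F Y) (hP : ∀ Y, Φ (V.P.obj Y))
    (hzero : ∀ Y, IsZero Y → Φ Y) (hiso : ∀ {Y Y' : A}, (Y ≅ Y') → Φ Y → Φ Y')
    (hsigma : ∀ (ι : Type) (N : ι → A), (∀ i, Φ (N i)) → Φ (∐ N))
    (C : CochainComplex A ℤ) : IsKFlat F (V.resol.obj C) :=
  isKFlat_of_isColimit F (V.seqF.obj C) (colimit.cocone _)
    (fun q => isColimitOfPreserves (eval A up q) (colimit.isColimit _))
    fun n => isKFlat_of_flat F _ (n : ℤ)
      (fun q hq => V.res_X_zero _ n
        (fun p hp => CochainComplex.isZero_of_isStrictlyLE (C.truncLE (n : ℤ)) n p hp) q hq)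
      fun q => hΦ _ (V.res_X_prop Φ hP hzero hiso hsigma _ q)

end kflat

end Cover

end Groth.DerivedCoh.KFlat
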