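import Groth.Agent.DerivedCoh.KFlat.Generic
import Groth.Agent.DerivedCoh.KFlat.Resolution
import Groth.Agent.DerivedCoh.KFlat.Unbounded

/-!
A complex which is acyclic after tensoring with every object is acyclic after tensoring with every
complex.
-/

universe w v u v₁ u₁ v₂ u₂

set_option backward.defeqAttrib.useBackward true
set_option backward.isDefEq.respectTransparency false

namespace Groth.DerivedCoh.KFlat

open CategoryTheory CategoryTheory.Limits HomologicalComplex

variable {A₁ : Type u₁} [Category.{v₁} A₁] [Abelian A₁]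
  {A₂ : Type u₂} [Category.{v₂} A₂] [Abelian A₂]
  {D : Type u} [Category.{v} D] [Abelian D]
  [∀ J : Type, HasColimitsOfShape (Discrete J) D]
  (F : A₁ ⥤ A₂ ⥤ D) [F.Additive] [∀ X, (F.obj X).Additive]

local notation "up" => ComplexShape.up ℤ

/-- the bicomplex of a complex in degree zero and a complex -/
noncomputable def biSingleTensorIso (M : A₁) (C : CochainComplex A₂ ℤ) :
    ((Bi F).obj ((single A₁ up 0).obj M)).obj C ≅
      Cover.biSingle.obj (((F.obj M).mapHomologicalComplex up).obj C) :=
  let e : (((Bi F).obj ((single A₁ up 0).obj M)).obj C).X 0 ≅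
      ((F.obj M).mapHomologicalComplex up).obj C :=
    (NatIso.mapHomologicalComplex (F.mapIso (singleObjXSelf up 0 M)) up).app C
  have h0 : ∀ p, p ≠ 0 → IsZero ((((Bi F).obj ((single A₁ up 0).obj M)).obj C).X p) := fun p hp => by
    rw [IsZero.iff_id_eq_zero]
    exact HomologicalComplex.hom_ext _ _ fun q =>
      ((F.flip.obj (C.X q)).map_isZero (isZero_single_obj_X up 0 M p hp)).eq_of_src _ _
  { hom := mkHomToSingle e.hom fun i hi => (h0 i (by simp at hi; lia)).eq_of_src _ _
    inv := mkHomFromSingle e.inv fun j hj => (h0 j (by simp at hj; lia)).eq_of_tgt _ _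
    hom_inv_id := by
      refine HomologicalComplex.hom_ext _ _ fun p => ?_
      by_cases hp : p = 0
      · subst hp
        simp
      · exact (h0 p hp).eq_of_src _ _
    inv_hom_id := by
      refine HomologicalComplex.to_single_hom_ext ?_
      simp }

/-- tensoring with an object in degree zero -/
noncomputable def totSingleIso (M : A₁) (C : CochainComplex A₂ ℤ) :
    tot F ((single A₁ up 0).obj M) C ≅ ((F.obj M).mapHomologicalComplex up).obj C :=
  (HomologicalComplex₂.totalFunctor D up up up).mapIso (biSingleTensorIso F M C) ≪≫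
    Cover.totalSingleIso.app _

variable [∀ J : Type, HasExactColimitsOfShape (Discrete J) D]
  [HasColimitsOfShape ℕ D] [HasExactColimitsOfShape ℕ D]

theorem acyclic_tot_of_forall (C : CochainComplex A₂ ℤ)
    (h : ∀ Y, (((F.obj Y).mapHomologicalComplex up).obj C).Acyclic) (L : CochainComplex A₁ ℤ) :
    (tot F L C).Acyclic := by
  have hb : ∀ n : ℕ, (tot F (L.truncLE (n : ℤ)) C).Acyclic := fun n i => by
    refine ExactAt.of_iso ?_ ((((Bi F).obj (L.truncLE (n : ℤ))).obj C).totalFlipIso up)
    exact acyclic_total_of_rows (((Bi F).obj (L.truncLE (n : ℤ))).obj C).flip (n : ℤ)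
      (fun q p hp => (F.flip.obj (C.X q)).map_isZero
        ((L.truncLE (n : ℤ)).isZero_of_isStrictlyLE (n : ℤ) p hp))
      (fun p => h _) i
  let X : ℕ ⥤ CochainComplex A₁ ℤ := truncSeq.flip.obj L
  let c : Cocone X := ((evaluation _ _).obj L).mapCocone truncCocone
  have hc : IsColimit ((HomologicalComplex₂.totalFunctor D up up up).mapCocone
      (((Bi F).flip.obj C).mapCocone c)) :=
    isColimitTotal _ fun p q => isColimitOfEventuallyIso _ (p + 1).toNat fun n hn => by
      have := isIso_ιTruncLE_f L n p (by lia)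
      exact inferInstanceAs (IsIso ((F.flip.obj (C.X q)).map ((L.ιTruncLE (n : ℤ)).f p)))
  intro i
  exact (acyclic_colimit ℕ (X ⋙ (Bi F).flip.obj C ⋙ HomologicalComplex₂.totalFunctor D up up up)
    hb i).of_iso ((colimit.isColimit _).coconePointUniqueUpToIso hc)

end Groth.DerivedCoh.KFlat
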