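import Groth.Agent.DerivedCoh.KFlat.SchemePullback
import Groth.Agent.DerivedCoh.KFlat.Pointwise
import Groth.Agent.DerivedCoh.KFlat.Factor
import Mathlib.Algebra.Homology.HomotopyCategory.Acyclic
import Mathlib.Algebra.Homology.HomotopyCategory.Triangulated

/-!
The inverse image of a K-flat complex is K-flat.
-/

universe u

open CategoryTheory CategoryTheory.Limits AlgebraicGeometry MonoidalCategory HomologicalComplex

namespace Groth.DerivedCoh.KFlat

attribute [local instance] HasDerivedCategory.standard

variable {X Y : Scheme.{u}}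

local notation "up" => ComplexShape.up ℤ

/-- tensoring with an acyclic K-flat complex gives an acyclic complex -/
lemma acyclic_tot_of_acyclic_kFlat (C : CochainComplex Y.Modules ℤ) (hC : IsKFlat (T Y) C)
    (hac : C.Acyclic) (L : CochainComplex Y.Modules ℤ) : (tot (T Y) L C).Acyclic := by
  have := flatResolution_quasiIso L
  have h := hC.quasiIso_totL ((flatResolutionAug Y).app L)
  intro i
  have h2 : (tot (T Y) ((flatResolution Y).obj L) C).ExactAt i :=
    (isKFlat_flip_iff (T Y) _).1 (flatResolution_isKFlat_flip L) C hac i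
  have h3 : QuasiIsoAt ((totL (T Y) C).map ((flatResolutionAug Y).app L)) i := inferInstance
  exact (quasiIsoAt_iff_exactAt ((totL (T Y) C).map ((flatResolutionAug Y).app L)) i h2).1 h3

/-- the stalks of an acyclic K-flat complex are universally exact -/
lemma acyclic_stalk_tensor (C : CochainComplex Y.Modules ℤ) (hC : IsKFlat (T Y) C)
    (hac : C.Acyclic) (y : Y) (N : ModuleCat.{u} (Y.presheaf.stalk y)) :
    (((stk y ⋙ tensorLeft N).mapHomologicalComplex up).obj C).Acyclic := by
  have h := acyclic_tot_of_acyclic_kFlat C hC hac ((single _ up 0).obj (Groth.QCohMod.sky y N))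
  let e : ((T Y).obj (Groth.QCohMod.sky y N) ⋙ stk y) ≅ stk y ⋙ tensorLeft N :=
    tensorStkIso _ y ≪≫
      Functor.isoWhiskerLeft (stk y) ((curriedTensor _).mapIso (skyStkIso y N))
  intro i
  refine ExactAt.of_iso ?_ ((NatIso.mapHomologicalComplex e up).app C)
  have h2 : (((((T Y).obj (Groth.QCohMod.sky y N)).mapHomologicalComplex up).obj C)).ExactAt i :=
    (h i).of_iso (totSingleIso (T Y) (Groth.QCohMod.sky y N) C)
  exact ShortComplex.Exact.map h2 (stk y)

/-- `(M, N) ↦ M ⊗ f^*N` -/
noncomputable abbrev TP (f : X ⟶ Y) : X.Modules ⥤ Y.Modules ⥤ X.Modules :=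
  T X ⋙ (Functor.whiskeringLeft _ _ _).obj (Scheme.Modules.pullback f)

instance (f : X ⟶ Y) (M : X.Modules) : ((TP f).obj M).Additive :=
  inferInstanceAs (Scheme.Modules.pullback f ⋙ (T X).obj M).Additive

/-- the cone of a quasi-isomorphism is acyclic -/
lemma acyclic_mappingCone_of_quasiIso {A : Type*} [Category A] [Abelian A]
    {K L : CochainComplex A ℤ} (φ : K ⟶ L) [QuasiIso φ] :
    (CochainComplex.mappingCone φ).Acyclic := by
  have h : HomologicalComplex.quasiIso A up φ := (HomologicalComplex.mem_quasiIso_iff φ).2 inferInstance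
  rw [← HomotopyCategory.quotient_map_mem_quasiIso_iff φ,
    HomotopyCategory.quasiIso_eq_trW_subcategoryAcyclic] at h
  exact (((HomotopyCategory.subcategoryAcyclic A).trW_iff_of_distinguished
    (CochainComplex.mappingCone.triangleh φ)
    (HomotopyCategory.mappingCone_triangleh_distinguished φ)).trans
      (HomotopyCategory.quotient_obj_mem_subcategoryAcyclic_iff_acyclic _)).1 h

/-- the inverse image of complexes -/
noncomputable abbrev pullCx (f : X ⟶ Y) :
    CochainComplex Y.Modules ℤ ⥤ CochainComplex X.Modules ℤ :=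
  (Scheme.Modules.pullback f).mapHomologicalComplex up

lemma isKFlat_TP_iff (f : X ⟶ Y) (E : CochainComplex Y.Modules ℤ) :
    IsKFlat (TP f) E ↔ IsKFlat (T X) ((pullCx f).obj E) :=
  Iff.rfl

/-- the inverse image of an acyclic K-flat complex is universally acyclic -/
lemma acyclic_tot_pullback (f : X ⟶ Y) (C : CochainComplex Y.Modules ℤ) (hC : IsKFlat (T Y) C)
    (hac : C.Acyclic) (L : CochainComplex X.Modules ℤ) : (tot (TP f) L C).Acyclic := by
  refine acyclic_tot_of_forall (TP f) C (fun M i => ?_) L
  have := stk_jointly (X := X)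
  rw [exactAt_iff, (stk_jointly (X := X)).exact_iff]
  intro x
  rw [← ShortComplex.exact_map_iff_of_faithful _ (ModuleCat.restrictScalars (f.stalkMap x).hom)]
  have h := (acyclic_stalk_tensor C hC hac (f x)
    ((ModuleCat.restrictScalars (f.stalkMap x).hom).obj ((stk x).obj M)) i).of_iso
    ((NatIso.mapHomologicalComplex (tensorPullStkIso f x M) up).app C).symm
  exact h

lemma acyclic_pullCx (f : X ⟶ Y) (C : CochainComplex Y.Modules ℤ) (hC : IsKFlat (T Y) C)
    (hac : C.Acyclic) : ((pullCx f).obj C).Acyclic := by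
  intro i
  rw [exactAt_iff, (stk_jointly (X := X)).exact_iff]
  intro x
  rw [← ShortComplex.exact_map_iff_of_faithful _ (ModuleCat.restrictScalars (f.stalkMap x).hom)]
  let e : Scheme.Modules.pullback f ⋙ stk x ⋙ ModuleCat.restrictScalars (f.stalkMap x).hom ≅
      stk (f x) ⋙ tensorLeft
        ((ModuleCat.restrictScalars (f.stalkMap x).hom).obj (𝟙_ (ModuleCat.{u} (X.presheaf.stalk x)))) :=
    Functor.isoWhiskerRight (pullStkIso f x) (ModuleCat.restrictScalars (f.stalkMap x).hom) ≪≫
      Functor.isoWhiskerLeft (stk (f x))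
        (Functor.isoWhiskerLeft (ModuleCat.extendScalars (f.stalkMap x).hom)
            (Functor.isoWhiskerRight (leftUnitorNatIso (ModuleCat.{u} (X.presheaf.stalk x))).symm _) ≪≫
          baseTensorIso (f.stalkMap x).hom _)
  exact (acyclic_stalk_tensor C hC hac (f x) _ i).of_iso
    ((NatIso.mapHomologicalComplex e up).app C).symm

instance (f : X ⟶ Y) (M : X.Modules) : PreservesColimitsOfShape ℕ ((TP f).obj M) :=
  inferInstanceAs (PreservesColimitsOfShape ℕ (Scheme.Modules.pullback f ⋙ (T X).obj M))

lemma isKFlat_pullCx_resolution (f : X ⟶ Y) (K : CochainComplex Y.Modules ℤ) :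
    IsKFlat (TP f) ((flatResolution Y).obj K) :=
  (schemeCover Y).isKFlat_resol (TP f) FlatMod.IsFlat
    (fun _ h S hS => flat_of_isFlat (isFlat_pullback f h) S hS)
    isFlat_coverObj (fun _ => isFlat_of_isZero)
    (fun e h => Groth.CohTwo.isFlat_of_iso e.symm h) isFlat_sigma₀ K

theorem isKFlat_pullCx (f : X ⟶ Y) (K : CochainComplex Y.Modules ℤ) (hK : IsKFlat (T Y) K) :
    IsKFlat (T X) ((pullCx f).obj K) := by
  rw [← isKFlat_TP_iff]
  let q := (flatResolutionAug Y).app K
  have hR := flatResolution_isKFlat K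
  have hq : QuasiIso q := flatResolution_quasiIso K
  let C := CochainComplex.mappingCone q
  have hC : IsKFlat (T Y) C := hR.mappingCone (T Y) q hK
  have hac : C.Acyclic := acyclic_mappingCone_of_quasiIso q
  have h₂ : IsKFlat (TP f) C := fun L _ => acyclic_tot_pullback f C hC hac L
  exact (isKFlat_two_of_three (TP f) (coneSC q) fun M p =>
    ((coneSplitting q p).map ((TP f).obj M)).shortExact).2.2 h₂
      ((isKFlat_pullCx_resolution f K).shift (TP f) 1)

end Groth.DerivedCoh.KFlat
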