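import Mathlib.Algebra.Homology.TotalComplex
import Mathlib.Algebra.Homology.Additive
import Mathlib.Algebra.Homology.BifunctorFlip
import Mathlib.CategoryTheory.Limits.Preserves.Shapes.Products

/-!
Functors preserving coproducts commute with total complexes.
-/

universe v u v' u'

set_option backward.defeqAttrib.useBackward true
set_option backward.isDefEq.respectTransparency false
set_option backward.isDefEq.respectTransparency.types false

namespace Groth.DerivedCoh.KFlat

open CategoryTheory CategoryTheory.Limits HomologicalComplex

variable {D : Type u} [Category.{v} D] [Preadditive D] {D' : Type u'} [Category.{v'} D'] [Preadditive D']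
  [∀ J : Type, HasColimitsOfShape (Discrete J) D] [∀ J : Type, HasColimitsOfShape (Discrete J) D']
  (G : D ⥤ D') [G.Additive] [∀ J : Type, PreservesColimitsOfShape (Discrete J) G]

local notation "up" => ComplexShape.up ℤ

/-- the image of a bicomplex -/
noncomputable abbrev mapBi : HomologicalComplex₂ D up up ⥤ HomologicalComplex₂ D' up up :=
  (G.mapHomologicalComplex up).mapHomologicalComplex up

variable (K : HomologicalComplex₂ D up up)

/-- the comparison in one degree -/
noncomputable def totalMapXIso (n : ℤ) :
    ((mapBi G).obj K |>.total up).X n ≅ G.obj ((K.total up).X n) :=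
  IsColimit.coconePointUniqueUpToIso
    ((((mapBi G).obj K).toGradedObject).isColimitCofanMapObj (ComplexShape.π up up up) n)
    (Cofan.isColimitMapCoconeEquiv G _ _ (isColimitOfPreserves G
      (K.toGradedObject.isColimitCofanMapObj (ComplexShape.π up up up) n)))

@[reassoc (attr := simp)]
lemma ι_totalMapXIso_hom (i j n : ℤ) (h : ComplexShape.π up up up (i, j) = n) :
    ((mapBi G).obj K).ιTotal up i j n h ≫ (totalMapXIso G K n).hom =
      G.map (K.ιTotal up i j n h) :=
  IsColimit.comp_coconePointUniqueUpToIso_hom
    ((((mapBi G).obj K).toGradedObject).isColimitCofanMapObj (ComplexShape.π up up up) n) _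
    ⟨⟨(i, j), h⟩⟩

/-- a functor preserving coproducts commutes with total complexes -/
noncomputable def totalMapIso :
    ((mapBi G).obj K).total up ≅ (G.mapHomologicalComplex up).obj (K.total up) :=
  HomologicalComplex.Hom.isoOfComponents (totalMapXIso G K) fun n n' hn => by
    obtain rfl : n + 1 = n' := hn
    refine HomologicalComplex₂.total.hom_ext _ fun i j h => ?_
    rw [ι_totalMapXIso_hom_assoc]
    change G.map (K.ιTotal up i j n h) ≫ G.map (K.D₁ up n (n + 1) + K.D₂ up n (n + 1)) =
      ((mapBi G).obj K).ιTotal up i j n h ≫
        ((((mapBi G).obj K).D₁ up n (n + 1) + ((mapBi G).obj K).D₂ up n (n + 1))) ≫ _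
    simp at h
    rw [← Functor.map_comp, Preadditive.comp_add, Preadditive.add_comp, Preadditive.comp_add,
      HomologicalComplex₂.ι_D₁, HomologicalComplex₂.ι_D₂,
      HomologicalComplex₂.ι_D₁_assoc, HomologicalComplex₂.ι_D₂_assoc,
      K.d₁_eq up (show (up).Rel i (i + 1) by simp) j (n + 1) (by simp; lia),
      K.d₂_eq up i (show (up).Rel j (j + 1) by simp) (n + 1) (by simp; lia),
      ((mapBi G).obj K).d₁_eq up (show (up).Rel i (i + 1) by simp) j (n + 1) (by simp; lia),
      ((mapBi G).obj K).d₂_eq up i (show (up).Rel j (j + 1) by simp) (n + 1) (by simp; lia)]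
    simp [Functor.map_add, Units.smul_def, Functor.map_zsmul, Linear.units_smul_comp]

end Groth.DerivedCoh.KFlat
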