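import Groth.Agent.PicAux.PullTensor
import Groth.Agent.DerivedCoh.KFlat.TotalMap
import Groth.Agent.DerivedCoh.KFlat.PullbackKFlat

/-!
Inverse images commute with tensor products of complexes.
-/

universe u

open CategoryTheory CategoryTheory.Limits AlgebraicGeometry HomologicalComplex
open Groth.PicAux (pullSec tmulSec)

namespace Groth.DerivedCoh.KFlat

variable {X Y : Scheme.{u}}

local notation "up" => ComplexShape.up ℤ

/-- `f^*(L ⊗ M) ≅ f^*L ⊗ f^*M` -/
noncomputable def pullTensor (f : X ⟶ Y) (L M : Y.Modules) :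
    (Scheme.Modules.pullback f).obj (((T Y).obj L).obj M) ≅
      ((T X).obj ((Scheme.Modules.pullback f).obj L)).obj ((Scheme.Modules.pullback f).obj M) :=
  (Groth.PicAux.exists_pullback_tensorMod f L M).choose

lemma pullTensor_pullSec (f : X ⟶ Y) (L M : Y.Modules) (W : Y.Opens) (a : Γ(L, W)) (b : Γ(M, W)) :
    (pullTensor f L M).hom.app (f ⁻¹ᵁ W)
      (pullSec f _ (tmulSec a b : Γ(CohB1.tensorMod L M, W))) =
      tmulSec (pullSec f L a) (pullSec f M b) :=
  (Groth.PicAux.exists_pullback_tensorMod f L M).choose_spec W a b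

/-- two morphisms out of `f^*(L ⊗ M)` agree when they agree on the sections `f^*(a ⊗ b)` -/
lemma pull_tensor_hom_ext (f : X ⟶ Y) {L M : Y.Modules} {P : X.Modules}
    {φ ψ : (Scheme.Modules.pullback f).obj (CohB1.tensorMod L M) ⟶ P}
    (h : ∀ W a b, φ.app (f ⁻¹ᵁ W) (pullSec f _ (tmulSec a b : Γ(CohB1.tensorMod L M, W))) =
      ψ.app (f ⁻¹ᵁ W) (pullSec f _ (tmulSec a b : Γ(CohB1.tensorMod L M, W)))) : φ = ψ := by
  refine ((Scheme.Modules.pullbackPushforwardAdjunction f).homEquiv _ _).injective ?_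
  rw [Adjunction.homEquiv_unit, Adjunction.homEquiv_unit]
  exact Groth.PicAux.tensor_hom_ext fun W a b => h W a b

lemma pullTensor_right (f : X ⟶ Y) (L : Y.Modules) {M N : Y.Modules} (φ : M ⟶ N) :
    (Scheme.Modules.pullback f).map (((T Y).obj L).map φ) ≫ (pullTensor f L N).hom =
      (pullTensor f L M).hom ≫
        ((T X).obj ((Scheme.Modules.pullback f).obj L)).map ((Scheme.Modules.pullback f).map φ) := by
  refine pull_tensor_hom_ext f fun W a b => ?_
  change (pullTensor f L N).hom.app (f ⁻¹ᵁ W)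
      (((Scheme.Modules.pullback f).map (((T Y).obj L).map φ)).app (f ⁻¹ᵁ W)
        (pullSec f _ (tmulSec a b : Γ(CohB1.tensorMod L M, W)))) =
    (((T X).obj ((Scheme.Modules.pullback f).obj L)).map ((Scheme.Modules.pullback f).map φ)).app
      (f ⁻¹ᵁ W) ((pullTensor f L M).hom.app (f ⁻¹ᵁ W)
        (pullSec f _ (tmulSec a b : Γ(CohB1.tensorMod L M, W))))
  rw [pullTensor_pullSec, tensorMap_tmulSec]
  refine Eq.trans (congrArg _ (Groth.PicAux.pullSec_map f _ _)) ?_
  refine Eq.trans (congrArg (fun z => (pullTensor f L N).hom.app (f ⁻¹ᵁ W) (pullSec f _ z))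
    (tensorMap_tmulSec L φ W a b)) ?_
  rw [pullTensor_pullSec]
  exact congrArg _ (Groth.PicAux.pullSec_map f φ b).symm

lemma pullTensor_left (f : X ⟶ Y) {L L' : Y.Modules} (ψ : L ⟶ L') (M : Y.Modules) :
    (Scheme.Modules.pullback f).map (((T Y).map ψ).app M) ≫ (pullTensor f L' M).hom =
      (pullTensor f L M).hom ≫
        ((T X).map ((Scheme.Modules.pullback f).map ψ)).app ((Scheme.Modules.pullback f).obj M) := by
  refine pull_tensor_hom_ext f fun W a b => ?_
  change (pullTensor f L' M).hom.app (f ⁻¹ᵁ W)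
      (((Scheme.Modules.pullback f).map (((T Y).map ψ).app M)).app (f ⁻¹ᵁ W)
        (pullSec f _ (tmulSec a b : Γ(CohB1.tensorMod L M, W)))) =
    (((T X).map ((Scheme.Modules.pullback f).map ψ)).app ((Scheme.Modules.pullback f).obj M)).app
      (f ⁻¹ᵁ W) ((pullTensor f L M).hom.app (f ⁻¹ᵁ W)
        (pullSec f _ (tmulSec a b : Γ(CohB1.tensorMod L M, W))))
  rw [pullTensor_pullSec, tensorMap_left_tmulSec]
  refine Eq.trans (congrArg _ (Groth.PicAux.pullSec_map f _ _)) ?_
  refine Eq.trans (congrArg (fun z => (pullTensor f L' M).hom.app (f ⁻¹ᵁ W) (pullSec f _ z))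
    (tensorMap_left_tmulSec ψ M W a b)) ?_
  rw [pullTensor_pullSec]
  exact congrArg (fun z => tmulSec z (pullSec f M b)) (Groth.PicAux.pullSec_map f ψ a).symm

/-- `f^*` is a tensor functor -/
noncomputable def pullTensorNatIso (f : X ⟶ Y) :
    T Y ⋙ (Functor.whiskeringRight _ _ _).obj (Scheme.Modules.pullback f) ≅
      Scheme.Modules.pullback f ⋙ TP f :=
  NatIso.ofComponents
    (fun L => NatIso.ofComponents (fun M => pullTensor f L M) fun φ => pullTensor_right f L φ)
    fun ψ => NatTrans.ext <| funext fun M => pullTensor_left f ψ M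

end Groth.DerivedCoh.KFlat
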