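import Groth.Agent.DerivedCoh.KFlat.LTensorCx
import Mathlib.CategoryTheory.Adjunction.Unique

/-!
`- ⊗^L K` for an arbitrary complex `K`, and associativity.
-/

universe u

open CategoryTheory CategoryTheory.Limits AlgebraicGeometry HomologicalComplex

namespace Groth.DerivedCoh.KFlat

attribute [local instance] HasDerivedCategory.standard

variable {X : Scheme.{u}}

local notation "up" => ComplexShape.up ℤ

/-- tensoring with an arbitrary complex preserves quasi-isomorphisms of K-flat complexes -/
lemma quasiIso_totL_flat (K : CochainComplex X.Modules ℤ) {E E' : CochainComplex X.Modules ℤ}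
    (hE : IsKFlat (T X).flip E) (hE' : IsKFlat (T X).flip E') (α : E ⟶ E') [QuasiIso α] :
    QuasiIso ((totL (T X) K).map α) := by
  let π := (flatResolutionAug X).app K
  have : QuasiIso π := flatResolution_quasiIso K
  have h₁ : QuasiIso ((totR (T X) E).map π) := quasiIso_totR (T X) hE π
  have h₂ : QuasiIso ((totR (T X) E').map π) := quasiIso_totR (T X) hE' π
  have h₃ : QuasiIso ((totL (T X) ((flatResolution X).obj K)).map α) :=
    (flatResolution_isKFlat K).quasiIso_totL α
  have e : (totR (T X) E).map π ≫ (totL (T X) K).map α =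
      (totL (T X) ((flatResolution X).obj K)).map α ≫ (totR (T X) E').map π :=
    ((T X).map₂CochainComplex.map α).naturality π
  have : QuasiIso ((totR (T X) E).map π ≫ (totL (T X) K).map α) := e ▸ inferInstance
  exact quasiIso_of_comp_left ((totR (T X) E).map π) _

lemma isIso_tensorCxQ_map (K : CochainComplex X.Modules ℤ) {E E' : CochainComplex X.Modules ℤ}
    (hE : IsKFlat (T X).flip E) (hE' : IsKFlat (T X).flip E') (α : E ⟶ E') [QuasiIso α] :
    IsIso ((DCoh.tensorCxQ K).map α) :=
  (DerivedCategory.isIso_Q_map_iff_quasiIso _ _).2 (quasiIso_totL_flat K hE hE' α)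

lemma exists_derived_ltcx (K : CochainComplex X.Modules ℤ) :
    ∃ (LF : DCoh.D X ⥤ DCoh.D X) (α : DerivedCategory.Q ⋙ LF ⟶ DCoh.tensorCxQ K),
      LF.IsRightKanExtension α ∧ ∀ C : CochainComplex X.Modules ℤ, IsKFlat (T X).flip C →
        IsIso (α.app C) := by
  obtain ⟨LF, α, hα, hiso⟩ := exists_isRightKanExtension_of_resolution DerivedCategory.Q
    (HomologicalComplex.quasiIso X.Modules up) (DCoh.tensorCxQ K) (flatResolution X)
    (flatResolutionAug X)
    (fun C => (HomologicalComplex.mem_quasiIso_iff _).2 (flatResolution_quasiIso C))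
    (fun C C' w hw => by
      have : QuasiIso w := (HomologicalComplex.mem_quasiIso_iff w).1 hw
      have := flatResolution_quasiIso C
      have := flatResolution_quasiIso C'
      have e := (flatResolutionAug X).naturality w
      have : QuasiIso ((flatResolution X).map w ≫ (flatResolutionAug X).app C') := by
        rw [e]
        change QuasiIso ((flatResolutionAug X).app C ≫ w)
        infer_instance
      have : QuasiIso ((flatResolution X).map w) :=
        quasiIso_of_comp_right _ ((flatResolutionAug X).app C')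
      exact isIso_tensorCxQ_map K (flatResolution_isKFlat_flip C) (flatResolution_isKFlat_flip C') _)
    (fun C => by
      have := flatResolution_quasiIso ((flatResolution X).obj C)
      exact isIso_tensorCxQ_map K (flatResolution_isKFlat_flip _) (flatResolution_isKFlat_flip C) _)
  refine ⟨LF, α, hα, fun C hC => hiso C ?_⟩
  have := flatResolution_quasiIso C
  exact isIso_tensorCxQ_map K (flatResolution_isKFlat_flip C) hC _

/-- `- ⊗^L K` exists for every complex `K` -/
theorem hasLTensorCx (K : CochainComplex X.Modules ℤ) : DCoh.HasLTensorCx K := by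
  obtain ⟨LF, α, hα, -⟩ := exists_derived_ltcx K
  exact (Functor.hasLeftDerivedFunctor_iff (DCoh.tensorCxQ K) DerivedCategory.Q
    (HomologicalComplex.quasiIso X.Modules up)).2 (Functor.HasRightKanExtension.mk LF α)

/-- the counit of `- ⊗^L K` -/
noncomputable abbrev ltcxCounit (K : CochainComplex X.Modules ℤ) [DCoh.HasLTensorCx K] :
    DerivedCategory.Q ⋙ DCoh.LTensorCx K ⟶ DCoh.tensorCxQ K :=
  (DCoh.tensorCxQ K).totalLeftDerivedCounit DerivedCategory.Q
    (HomologicalComplex.quasiIso X.Modules up)

/-- `- ⊗^L K` is computed by complexes which are K-flat on the left -/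
theorem isIso_ltcxCounit_app (K : CochainComplex X.Modules ℤ) [DCoh.HasLTensorCx K]
    (C : CochainComplex X.Modules ℤ) (hC : IsKFlat (T X).flip C) :
    IsIso ((ltcxCounit K).app C) := by
  obtain ⟨LF, α, hα, hiso⟩ := exists_derived_ltcx K
  have hc : (DCoh.LTensorCx K).IsRightKanExtension (ltcxCounit K) :=
    Functor.IsLeftDerivedFunctor.isRightKanExtension
      (W := HomologicalComplex.quasiIso X.Modules up) _ _
  let e := (DCoh.LTensorCx K).rightKanExtensionUnique (ltcxCounit K) LF α
  have he : ∀ Z, e.hom.app (DerivedCategory.Q.obj Z) ≫ α.app Z = (ltcxCounit K).app Z := fun Z =>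
    (LF.liftOfIsRightKanExtension_fac_app α (DCoh.LTensorCx K) (ltcxCounit K ≫ 𝟙 _) Z).trans
      (by simp)
  rw [← he]
  have := hiso C hC
  infer_instance

/-- `- ⊗^L K` through the functorial resolution -/
noncomputable def ltcxResIso (K : CochainComplex X.Modules ℤ) [DCoh.HasLTensorCx K] :
    DerivedCategory.Q ⋙ DCoh.LTensorCx K ≅ flatResolution X ⋙ DCoh.tensorCxQ K :=
  haveI : ∀ C, IsIso ((Functor.whiskerRight (flatResolutionAug X) DerivedCategory.Q).app C) :=
    fun C => (DerivedCategory.isIso_Q_map_iff_quasiIso _ _).2 (flatResolution_quasiIso C)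
  haveI := NatIso.isIso_of_isIso_app (Functor.whiskerRight (flatResolutionAug X) DerivedCategory.Q)
  haveI : ∀ C, IsIso ((Functor.whiskerLeft (flatResolution X) (ltcxCounit K)).app C) :=
    fun C => isIso_ltcxCounit_app K _ (flatResolution_isKFlat_flip C)
  haveI := NatIso.isIso_of_isIso_app (Functor.whiskerLeft (flatResolution X) (ltcxCounit K))
  Functor.isoWhiskerRight
      (asIso (Functor.whiskerRight (flatResolutionAug X) DerivedCategory.Q)).symm
      (DCoh.LTensorCx K) ≪≫
    Functor.associator _ _ _ ≪≫ asIso (Functor.whiskerLeft (flatResolution X) (ltcxCounit K))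

@[reassoc]
lemma ι_totL_map {A A' : CochainComplex X.Modules ℤ} (f : A ⟶ A') (K : CochainComplex X.Modules ℤ)
    (p q n : ℤ) (h : ComplexShape.π up up up (p, q) = n) :
    ιMapBifunctor A K (T X) up p q n h ≫ ((totL (T X) K).map f).f n =
      ((T X).map (f.f p)).app (K.X q) ≫ ιMapBifunctor A' K (T X) up p q n h := by
  refine (ι_mapBifunctorMap f (𝟙 K) (T X) up p q n h).trans ?_
  simp

/-- naturality of the associativity in the first variable -/
lemma totAssoc_natural {A A' : CochainComplex X.Modules ℤ} (f : A ⟶ A')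
    (K L : CochainComplex X.Modules ℤ) :
    (totL (T X) L).map ((totL (T X) K).map f) ≫ (totAssoc A' K L).hom =
      (totAssoc A K L).hom ≫ (totL (T X) (tot (T X) K L)).map f := by
  haveI := fun (N : X.Modules) (J : Type) =>
    preservesColimitsOfShape_tensorBi_flip (J := Discrete J) N
  refine HomologicalComplex.hom_ext _ _ fun j => mapBifunctor₁₂.hom_ext fun p q r h => ?_
  change _ ≫ ((totL (T X) L).map ((totL (T X) K).map f)).f j ≫
      (mapBifunctorAssociatorX (assocIso X) A' K L up up up j).hom =
    _ ≫ (mapBifunctorAssociatorX (assocIso X) A K L up up up j).hom ≫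
      ((totL (T X) (tot (T X) K L)).map f).f j
  have e₁ := mapBifunctor₁₂.ι_eq (T X) (T X) A K L up up p q r (p + q) j rfl h
  have e₂ := mapBifunctor₁₂.ι_eq (T X) (T X) A' K L up up p q r (p + q) j rfl h
  have hl : mapBifunctor₁₂.ι (T X) (T X) A K L up up p q r j h ≫
      ((totL (T X) L).map ((totL (T X) K).map f)).f j =
      ((T X).map (((T X).map (f.f p)).app (K.X q))).app (L.X r) ≫
        mapBifunctor₁₂.ι (T X) (T X) A' K L up up p q r j h := by
    rw [e₁, e₂]
    refine (Category.assoc _ _ _).trans ?_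
    refine (congrArg (_ ≫ ·) (ι_totL_map ((totL (T X) K).map f) L (p + q) r j h)).trans ?_
    refine Eq.trans ?_ (Category.assoc _ _ _)
    refine (Category.assoc _ _ _).symm.trans ?_
    refine congrArg (· ≫ (mapBifunctor A' K (T X) up).ιMapBifunctor L (T X) up (p + q) r j h) ?_
    exact (congr_app ((T X).map_comp _ _) (L.X r)).symm.trans
      ((congrArg (fun g => ((T X).map g).app (L.X r)) (ι_totL_map f K p q (p + q) rfl)).trans
        (congr_app ((T X).map_comp _ _) (L.X r)))
  have h' : p + (q + r) = j := (add_assoc p q r).symm.trans h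
  have hr : mapBifunctor₂₃.ι (T X) (T X) A K L up up up p q r j h ≫
      ((totL (T X) (tot (T X) K L)).map f).f j =
      ((T X).map (f.f p)).app (((T X).obj (K.X q)).obj (L.X r)) ≫
        mapBifunctor₂₃.ι (T X) (T X) A' K L up up up p q r j h := by
    rw [mapBifunctor₂₃.ι_eq _ _ _ _ _ _ _ _ p q r (q + r) j rfl h',
      mapBifunctor₂₃.ι_eq _ _ _ _ _ _ _ _ p q r (q + r) j rfl h']
    refine (Category.assoc _ _ _).trans ?_
    refine (congrArg (_ ≫ ·) (ι_totL_map f (tot (T X) K L) p (q + r) j h')).trans ?_
    refine ((Category.assoc _ _ _).symm.trans ?_).trans (Category.assoc _ _ _)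
    exact congrArg (· ≫ _) (((T X).map (f.f p)).naturality _)
  refine ((Category.assoc _ _ _).symm.trans (congrArg (· ≫ _) hl)).trans ?_
  refine ((Category.assoc _ _ _).trans (congrArg (_ ≫ ·)
    (ι_mapBifunctorAssociatorX_hom (assocIso X) A' K L up up up p q r j h))).trans ?_
  refine Eq.trans ?_ (((Category.assoc _ _ _).symm.trans (congrArg (· ≫ _)
    (ι_mapBifunctorAssociatorX_hom (assocIso X) A K L up up up p q r j h))).trans
      ((Category.assoc _ _ _).trans (congrArg (_ ≫ ·) hr))).symm
  refine ((Category.assoc _ _ _).symm.trans ?_).trans (Category.assoc _ _ _)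
  refine congrArg (· ≫ _) ?_
  exact congr_app (congr_app ((assocIso X).hom.naturality (f.f p)) (K.X q)) (L.X r)

/-- `(K ⊗ L)` : composition -/
noncomputable def totLComp (K L : CochainComplex X.Modules ℤ) :
    totL (T X) K ⋙ totL (T X) L ≅ totL (T X) (tot (T X) K L) :=
  NatIso.ofComponents (fun A => totAssoc A K L) fun f => totAssoc_natural f K L

/-- associativity of `⊗^L` -/
noncomputable def ltcxComp (K L : CochainComplex X.Modules ℤ) (hL : IsKFlat (T X) L)
    [DCoh.HasLTensorCx K] [DCoh.HasLTensorCx L] [DCoh.HasLTensorCx (tot (T X) K L)] :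
    DCoh.LTensorCx K ⋙ DCoh.LTensorCx L ≅ DCoh.LTensorCx (tot (T X) K L) :=
  Localization.liftNatIso DerivedCategory.Q (HomologicalComplex.quasiIso X.Modules up)
    (DerivedCategory.Q ⋙ DCoh.LTensorCx K ⋙ DCoh.LTensorCx L)
    (DerivedCategory.Q ⋙ DCoh.LTensorCx (tot (T X) K L)) _ _
    ((Functor.associator _ _ _).symm ≪≫
      Functor.isoWhiskerRight (ltcxResIso K) (DCoh.LTensorCx L) ≪≫
      Functor.associator _ _ _ ≪≫
      Functor.isoWhiskerLeft (flatResolution X) (Functor.associator _ _ _ ≪≫
        Functor.isoWhiskerLeft (totL (T X) K) (ltcxNatIso L hL) ≪≫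
        (Functor.associator _ _ _).symm ≪≫
        Functor.isoWhiskerRight (totLComp K L) DerivedCategory.Q) ≪≫
      (ltcxResIso (tot (T X) K L)).symm)

/-- `RHom(K, RHom(L, M)) ≅ RHom(K ⊗ L, M)` -/
noncomputable def rsheafHomComp (K L : CochainComplex X.Modules ℤ) (hL : IsKFlat (T X) L)
    [DCoh.HasLTensorCx K] [DCoh.HasRSheafHom K] [DCoh.HasLTensorCx L] [DCoh.HasRSheafHom L]
    [DCoh.HasLTensorCx (tot (T X) K L)] [DCoh.HasRSheafHom (tot (T X) K L)] :
    DCoh.RSheafHom L ⋙ DCoh.RSheafHom K ≅ DCoh.RSheafHom (tot (T X) K L) :=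
  (((DCoh.RSheafHomAdj K).comp (DCoh.RSheafHomAdj L)).ofNatIsoLeft (ltcxComp K L hL)).rightAdjointUniq
    (DCoh.RSheafHomAdj (tot (T X) K L))

end Groth.DerivedCoh.KFlat
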