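import Groth.Agent.DerivedCoh.KFlat.SchemeFactor
import Groth.Agent.QCohMod.Pullback
import Mathlib.RingTheory.Flat.Stability
import Mathlib.Algebra.Category.ModuleCat.ChangeOfRings

/-!
Inverse images of modules on stalks; base change of tensor products.
-/

universe u

open CategoryTheory CategoryTheory.Limits AlgebraicGeometry MonoidalCategory

namespace Groth.DerivedCoh.KFlat

section ring

variable {R S : Type u} [CommRing R] [CommRing S] (φ : R →+* S)

/-- `P ⊗_S (S ⊗_R N) = P ⊗_R N`, pointwise -/
noncomputable def baseTensorIsoApp (P : ModuleCat.{u} S) (N : ModuleCat.{u} R) :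
    (ModuleCat.restrictScalars φ).obj (P ⊗ (ModuleCat.extendScalars φ).obj N) ≅
      (ModuleCat.restrictScalars φ).obj P ⊗ N :=
  letI := φ.toAlgebra
  letI : Module R P := Module.compHom P φ
  haveI : IsScalarTower R S P := IsScalarTower.of_algebraMap_smul fun _ _ => rfl
  LinearEquiv.toModuleIso
    (X₁ := ((ModuleCat.restrictScalars φ).obj (P ⊗ (ModuleCat.extendScalars φ).obj N) : ModuleCat R))
    ((TensorProduct.AlgebraTensorModule.cancelBaseChange R S S P N).restrictScalars R)

/-- `P ⊗_S (S ⊗_R N) = P ⊗_R N` -/
noncomputable def baseTensorIso (P : ModuleCat.{u} S) :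
    ModuleCat.extendScalars φ ⋙ tensorLeft P ⋙ ModuleCat.restrictScalars φ ≅
      tensorLeft ((ModuleCat.restrictScalars φ).obj P) :=
  NatIso.ofComponents (baseTensorIsoApp φ P) fun {N N'} g => by
    letI := φ.toAlgebra
    letI : Module R P := Module.compHom P φ
    haveI : IsScalarTower R S P := IsScalarTower.of_algebraMap_smul fun _ _ => rfl
    ext t
    induction t using TensorProduct.induction_on with
    | zero => exact (map_zero _).trans (map_zero _).symm
    | add a b ha hb => exact (map_add _ a b).trans ((congrArg₂ (· + ·) ha hb).trans (map_add _ a b).symm)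
    | tmul p q =>
      induction q using TensorProduct.induction_on with
      | zero =>
        erw [TensorProduct.tmul_zero]
        exact (map_zero _).trans (map_zero _).symm
      | add a b ha hb =>
        erw [TensorProduct.tmul_add]
        exact (map_add _ _ _).trans ((congrArg₂ (· + ·) ha hb).trans (map_add _ _ _).symm)
      | tmul s n => rfl

lemma flat_extendScalars (N : ModuleCat.{u} R) (h : Module.Flat R N) :
    Module.Flat S ((ModuleCat.extendScalars φ).obj N) := by
  letI := φ.toAlgebra
  exact inferInstanceAs (Module.Flat S (TensorProduct R S N))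

end ring

variable {X Y : Scheme.{u}}

/-- the stalk of the inverse image, as functors -/
noncomputable def pullStkIso (f : X ⟶ Y) (x : X) :
    Scheme.Modules.pullback f ⋙ stk x ≅
      stk (f x) ⋙ ModuleCat.extendScalars (f.stalkMap x).hom :=
  letI := Groth.QCohMod.stalkAlg f x
  NatIso.ofComponents
    (fun M => (LinearEquiv.toModuleIso
      (X₁ := ((ModuleCat.extendScalars (f.stalkMap x).hom).obj ((stk (f x)).obj M) : ModuleCat _))
      (Groth.QCohMod.pullStalkEquiv f M x)).symm)
    fun {M N} φ => by
      rw [Iso.symm_hom, Iso.symm_hom, Iso.eq_inv_comp, ← Category.assoc, Iso.comp_inv_eq]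
      refine ModuleCat.ExtendScalars.hom_ext fun m => ?_
      obtain ⟨U, hU, s, rfl⟩ := Groth.QCohMod.exists_germ M (f x) m
      change (stk x).map ((Scheme.Modules.pullback f).map φ)
          (Groth.QCohMod.pullStalkHom f M x (1 ⊗ₜ Groth.QCohMod.germ M (f x) hU s)) =
        Groth.QCohMod.pullStalkHom f N x (1 ⊗ₜ (stk (f x)).map φ (M.presheaf.germ U (f x) hU s))
      rw [DerSch.stalkFunctor_map_germ, Groth.QCohMod.pullStalkHom_tmul,
        Groth.QCohMod.pullStalkHom_tmul, one_smul, one_smul]
      erw [Groth.QCohMod.pullGerm_germ, Groth.QCohMod.pullGerm_germ, DerSch.stalkFunctor_map_germ]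
      rw [Groth.PicAux.pullSec_map]

lemma isFlat_pullback (f : X ⟶ Y) {M : Y.Modules} (h : FlatMod.IsFlat M) :
    FlatMod.IsFlat ((Scheme.Modules.pullback f).obj M) := fun x => by
  exact @Module.Flat.of_linearEquiv _ _ _ _ _ _ _ _
    (flat_extendScalars (f.stalkMap x).hom ((stk (f x)).obj M) (h (f x))) ((pullStkIso f x).app M).toLinearEquiv

/-- the stalk of a skyscraper -/
noncomputable def skyStkIso (y : Y) (N : ModuleCat.{u} (Y.presheaf.stalk y)) :
    (stk y).obj (Groth.QCohMod.sky y N) ≅ N :=
  LinearEquiv.toModuleIso (X₁ := ((stk y).obj (Groth.QCohMod.sky y N) : ModuleCat _))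
    (LinearEquiv.ofBijective
      { toFun := Groth.QCohMod.fromSky (𝟙 (Groth.QCohMod.sky y N))
        map_add' := map_add _
        map_smul' := Groth.QCohMod.fromSky_smul _ }
      ⟨(injective_iff_map_eq_zero _).2 fun t ht => by
        obtain ⟨U, hU, s, rfl⟩ := Groth.QCohMod.exists_germ _ y t
        change Groth.QCohMod.fromSky (𝟙 _) _ = 0 at ht
        rw [Groth.QCohMod.fromSky_germ] at ht
        have : s = 0 := funext fun h => ht
        rw [this, map_zero],
      fun n => ⟨Groth.QCohMod.germ _ y (U := ⊤) trivial (show Groth.QCohMod.SkyObj y N ⊤ from fun _ => n),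
        Groth.QCohMod.fromSky_germ _ _ _⟩⟩)

/-- tensoring the inverse image, on stalks, as a functor to modules over the ring of the base -/
noncomputable def tensorPullStkIso (f : X ⟶ Y) (x : X) (M : X.Modules) :
    (Scheme.Modules.pullback f ⋙ (T X).obj M) ⋙ stk x ⋙
        ModuleCat.restrictScalars (f.stalkMap x).hom ≅
      stk (f x) ⋙ tensorLeft ((ModuleCat.restrictScalars (f.stalkMap x).hom).obj ((stk x).obj M)) :=
  Functor.isoWhiskerLeft (Scheme.Modules.pullback f)
      (Functor.isoWhiskerRight (tensorStkIso M x) (ModuleCat.restrictScalars (f.stalkMap x).hom)) ≪≫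
    Functor.isoWhiskerRight (pullStkIso f x)
      (tensorLeft ((stk x).obj M) ⋙ ModuleCat.restrictScalars (f.stalkMap x).hom) ≪≫
    Functor.isoWhiskerLeft (stk (f x)) (baseTensorIso (f.stalkMap x).hom ((stk x).obj M))

end Groth.DerivedCoh.KFlat
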