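import Groth.Agent.DerivedCoh.KFlat.SchemePullback
import Groth.Agent.DerivedCoh.KFlat.TotalMap
import Groth.Prelude.Def_KFlatSite
import Mathlib.Algebra.Homology.Monoidal

/-!
K-flatness of complexes of `O_X`-modules is detected on stalks.

The skyscraper at `x` is right adjoint to the stalk functor at `x`.
-/

universe u

open CategoryTheory CategoryTheory.Limits AlgebraicGeometry MonoidalCategory HomologicalComplex

namespace Groth.DerivedCoh.KFlat

open Groth.QCohMod (SkyObj sky toSky fromSky)

variable {X : Scheme.{u}}

local notation "up" => ComplexShape.up ℤ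

/-- The skyscraper functor. -/
noncomputable def skyF (x : X) : ModuleCat.{u} (X.presheaf.stalk x) ⥤ X.Modules where
  obj N := sky x N
  map {N N'} g := toSky (sky x N)
    (fun U hx =>
      { toFun := fun s => g ((s : SkyObj x N U) ⟨hx⟩)
        map_zero' := map_zero g.hom
        map_add' := fun s t => map_add g.hom _ _ })
    (fun U V h hx m => rfl)
    (fun U hx r m => map_smul g.hom (X.presheaf.germ U x hx r) ((m : SkyObj x N U) ⟨hx⟩))
  map_id N := by ext U s; rfl
  map_comp f g := by ext U s; rfl

/-- The stalk is left adjoint to the skyscraper. -/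
noncomputable def skyAdj (x : X) : stk x ⊣ skyF x :=
  Adjunction.mkOfHomEquiv
    { homEquiv := fun M N =>
        { toFun := fun φ => toSky M
            (fun U hx =>
              { toFun := fun m => φ (Groth.QCohMod.germ M x hx m)
                map_zero' := by rw [map_zero]; exact map_zero φ.hom
                map_add' := fun a b => by rw [map_add]; exact map_add φ.hom _ _ })
            (fun U V h hx m => congrArg φ (Groth.QCohMod.germ_res M h x hx m))
            (fun U hx r m => by
              show φ (Groth.QCohMod.germ M x hx (r • m)) = _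
              rw [Groth.QCohMod.germ_smul]
              exact map_smul φ.hom _ _)
          invFun := fun ψ => ModuleCat.ofHom (X := (stk x).obj M) (Y := N)
            { toFun := fromSky ψ
              map_add' := map_add _
              map_smul' := Groth.QCohMod.fromSky_smul ψ }
          left_inv := fun φ => by
            refine ModuleCat.hom_ext (LinearMap.ext fun t => ?_)
            obtain ⟨U, hU, m, rfl⟩ := Groth.QCohMod.exists_germ M x t
            exact Groth.QCohMod.fromSky_germ _ hU m
          right_inv := fun ψ => by
            ext U m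
            exact funext fun h => Groth.QCohMod.fromSky_germ ψ h.down m }
      homEquiv_naturality_left_symm := fun {M' M N} f g => by
        refine ModuleCat.hom_ext (LinearMap.ext fun t => ?_)
        obtain ⟨U, hU, m, rfl⟩ := Groth.QCohMod.exists_germ M' x t
        refine (Groth.QCohMod.fromSky_germ (f ≫ g) hU m).trans ?_
        show _ = fromSky g ((stk x).map f (Groth.QCohMod.germ M' x hU m))
        erw [DerSch.stalkFunctor_map_germ, Groth.QCohMod.fromSky_germ]
        rfl
      homEquiv_naturality_right := fun {M N N'} f g => by
        ext U m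
        rfl }

instance (x : X) : (skyF x).Additive :=
  Adjunction.right_adjoint_additive (skyAdj x)

instance (x : X) (N : ModuleCat.{u} (X.presheaf.stalk x)) : IsIso ((skyAdj x).counit.app N) := by
  rw [show (skyAdj x).counit.app N = (skyStkIso x N).hom from
    ModuleCat.hom_ext (LinearMap.ext fun t => rfl)]
  infer_instance

/-- The stalk of a skyscraper, naturally. -/
noncomputable def skyStkNatIso (x : X) :
    skyF x ⋙ stk x ≅ 𝟭 (ModuleCat.{u} (X.presheaf.stalk x)) :=
  have : IsIso (skyAdj x).counit := NatIso.isIso_of_isIso_app _
  asIso (skyAdj x).counit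

/-- The skyscraper functor is exact. -/
lemma exact_map_skyF (x : X) (S : ShortComplex (ModuleCat.{u} (X.presheaf.stalk x))) (hS : S.Exact) :
    (S.map (skyF x)).Exact := by
  rw [(stk_jointly (X := X)).exact_iff]
  intro y
  rw [ShortComplex.moduleCat_exact_iff]
  intro t ht
  obtain ⟨U, hU, s, rfl⟩ := Groth.QCohMod.exists_germ ((skyF x).obj S.X₂) y t
  have h1 : (Groth.QCohMod.germ ((skyF x).obj S.X₃) y hU) (((skyF x).map S.g).app U s) = 0 := by
    refine Eq.trans ?_ ht
    exact (DerSch.stalkFunctor_map_germ y ((skyF x).map S.g) U hU s).symm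
  obtain ⟨V, hV, hVU, hVU', hV0'⟩ := Groth.QCohMod.exists_res_eq_of_germ_eq (P := (skyF x).obj S.X₃) y hU hU
    (((skyF x).map S.g).app U s) 0 (h1.trans (map_zero _).symm)
  have hV0 := hV0'.trans (map_zero _)
  have h2 : ∀ h : PLift.{0} (x ∈ V), ∃ a : S.X₁, S.f a = (s : SkyObj x S.X₂ U) ⟨hVU h.down⟩ :=
    fun h => (ShortComplex.moduleCat_exact_iff S).1 hS _ (congrFun hV0 h)
  choose a ha using h2
  refine ⟨Groth.QCohMod.germ ((skyF x).obj S.X₁) y hV (a : SkyObj x S.X₁ V), ?_⟩
  refine (DerSch.stalkFunctor_map_germ y ((skyF x).map S.f) V hV a).trans ?_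
  refine Eq.trans ?_ (Groth.QCohMod.germ_res ((skyF x).obj S.X₂) hVU y hV s)
  exact congrArg _ (funext ha)

/-- The stalk of a total tensor product is the total tensor product of the stalks. -/
noncomputable def stkTotIso (x : X) (L E : CochainComplex X.Modules ℤ) :
    ((stk x).mapHomologicalComplex up).obj (tot (T X) L E) ≅
      tot (curriedTensor (ModuleCat.{u} (X.presheaf.stalk x)))
        (((stk x).mapHomologicalComplex up).obj L) (((stk x).mapHomologicalComplex up).obj E) :=
  (totalMapIso (stk x) (((Bi (T X)).obj L).obj E)).symm ≪≫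
    (HomologicalComplex₂.totalFunctor _ up up up).mapIso
      (HomologicalComplex.Hom.isoOfComponents
        (fun p => HomologicalComplex.Hom.isoOfComponents
          (fun q => (stkTensorIso (L.X p) (E.X q) x).symm)
          (fun q q' _ => by
            change (stkTensorIso (L.X p) (E.X q) x).inv ≫ _ ◁ (stk x).map (E.d q q') =
              (stk x).map (((T X).obj (L.X p)).map (E.d q q')) ≫ (stkTensorIso (L.X p) (E.X q') x).inv
            rw [Iso.inv_comp_eq, ← Category.assoc, Iso.eq_comp_inv]
            exact stkTensorIso_right _ _ x))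
        (fun p p' _ => by
          refine HomologicalComplex.hom_ext _ _ fun q => ?_
          change (stkTensorIso (L.X p) (E.X q) x).inv ≫ (stk x).map (L.d p p') ▷ _ =
            (stk x).map (((T X).map (L.d p p')).app (E.X q)) ≫ (stkTensorIso (L.X p') (E.X q) x).inv
          rw [Iso.inv_comp_eq, ← Category.assoc, Iso.eq_comp_inv]
          exact stkTensorIso_left _ _ x))

/-- K-flatness is detected on stalks. -/
theorem isKFlat_iff_stalk (E : CochainComplex X.Modules ℤ) :
    DCoh.IsKFlat E ↔ ∀ x : X, DRing.IsKFlat (A := X.presheaf.stalk x)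
      (((stk x).mapHomologicalComplex up).obj E) := by
  rw [isKFlat_iff]
  constructor
  · intro h x L hL i
    let L₀ := ((skyF x).mapHomologicalComplex up).obj L
    have hL₀ : L₀.Acyclic := fun j => exact_map_skyF x _
      ((HomologicalComplex.exactAt_iff_isZero_homology _ _).2 (hL j))
    have h1 : (((stk x).mapHomologicalComplex up).obj (tot (T X) L₀ E)).ExactAt i :=
      (h L₀ hL₀ i).map (stk x)
    let e1 : ((stk x).mapHomologicalComplex up).obj L₀ ≅ L :=
      (Functor.mapHomologicalComplexCompIso (skyStkNatIso x) up).app L ≪≫
          (Functor.mapHomologicalComplexIdIso _ up).app L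
    exact ((h1.of_iso (stkTotIso x L₀ E)).of_iso
      ((tensorRight (((stk x).mapHomologicalComplex up).obj E)).mapIso e1)).isZero_homology
  · intro h L hL i
    rw [exactAt_iff, (stk_jointly (X := X)).exact_iff]
    intro x
    have h1 := h x (((stk x).mapHomologicalComplex up).obj L)
      (fun j => ExactAt.isZero_homology ((hL j).map (stk x))) i
    exact ((HomologicalComplex.exactAt_iff_isZero_homology _ _).2 h1).of_iso (stkTotIso x L E).symm

end Groth.DerivedCoh.KFlat
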