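import Mathlib.RingTheory.Flat.Tensor
import Mathlib.LinearAlgebra.TensorProduct.RightExactness
import Mathlib.Algebra.Module.Injective

/-!
The cokernel of a map of flat modules is flat if the complex stays exact after tensoring with cyclic modules.
-/

universe u

open TensorProduct

namespace Groth.DerivedCoh

lemma flat_coker {R : Type u} [CommRing R] {A B C Q : Type u} [AddCommGroup A] [Module R A]
    [AddCommGroup B] [Module R B] [AddCommGroup C] [Module R C] [AddCommGroup Q] [Module R Q]
    (f : A →ₗ[R] B) (g : B →ₗ[R] C) (π : C →ₗ[R] Q) (hπ : Function.Surjective π)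
    (hgπ : Function.Exact g π) (hfg : g ∘ₗ f = 0) [Module.Flat R C]
    (h : ∀ I : Ideal R, Function.Exact (f.lTensor (R ⧸ I)) (g.lTensor (R ⧸ I))) :
    Module.Flat R Q := by
  rw [Module.Flat.iff_rTensor_injective']
  intro I
  rw [← LinearMap.ker_eq_bot, eq_bot_iff]
  intro t ht
  rw [LinearMap.mem_ker] at ht
  obtain ⟨z, rfl⟩ := LinearMap.lTensor_surjective I hπ t
  let ιI : I →ₗ[R] R := I.subtype
  let mk : R →ₗ[R] R ⧸ I := Submodule.mkQ I
  have comm : ∀ {P P' M M' : Type u} [AddCommGroup P] [Module R P] [AddCommGroup P'] [Module R P']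
      [AddCommGroup M] [Module R M] [AddCommGroup M'] [Module R M'] (p : P →ₗ[R] P')
      (m : M →ₗ[R] M') (x : P ⊗[R] M),
      m.lTensor P' (p.rTensor M x) = p.rTensor M' (m.lTensor P x) := by
    intros
    rw [← LinearMap.comp_apply, LinearMap.lTensor_comp_rTensor, ← LinearMap.comp_apply,
      LinearMap.rTensor_comp_lTensor]
  have h1 : π.lTensor R (ιI.rTensor C z) = 0 := (comm ιI π z).trans ht
  obtain ⟨w, hw⟩ := (lTensor_exact R hgπ hπ _).1 h1
  have hex : Function.Exact ιI mk := LinearMap.exact_subtype_mkQ I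
  have hmk : Function.Surjective mk := Submodule.mkQ_surjective I
  have h2 : g.lTensor (R ⧸ I) (mk.rTensor B w) = 0 := by
    rw [comm mk g, hw]
    exact (rTensor_exact C hex hmk _).2 ⟨z, rfl⟩
  obtain ⟨v', hv'⟩ := (h I _).1 h2
  obtain ⟨v, rfl⟩ := LinearMap.rTensor_surjective A hmk v'
  have h3 : mk.rTensor B (w - f.lTensor R v) = 0 := by
    rw [map_sub, sub_eq_zero, ← hv', comm mk f]
  obtain ⟨u', hu⟩ := (rTensor_exact B hex hmk _).1 h3
  have h4 : ιI.rTensor C z = ιI.rTensor C (g.lTensor I u') := by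
    rw [← comm ιI g, hu, map_sub, ← LinearMap.lTensor_comp_apply, hfg, LinearMap.lTensor_zero,
      LinearMap.zero_apply, sub_zero, hw]
  have h5 : z = g.lTensor I u' :=
    Module.Flat.rTensor_preserves_injective_linearMap (M := C) ιI Subtype.val_injective h4
  rw [Submodule.mem_bot, h5, ← LinearMap.lTensor_comp_apply,
    hgπ.linearMap_comp_eq_zero, LinearMap.lTensor_zero, LinearMap.zero_apply]

end Groth.DerivedCoh
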