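import Groth.Agent.DerivedCoh.KFlat.LTensorMod
import Groth.Agent.DerivedCoh.KFlat.FlatCoker
import Groth.Prelude.Def_DTor2
import Mathlib.Algebra.Homology.DerivedCategory.Fractions

/-!
Tor amplitude.
-/

universe u

open Groth.CohTwo (isFlat_of_iso)
open CategoryTheory CategoryTheory.Limits AlgebraicGeometry MonoidalCategory HomologicalComplex Pretriangulated

namespace Groth.DerivedCoh.KFlat

attribute [local instance] HasDerivedCategory.standard

variable {X Y : Scheme.{u}}

local notation "up" => ComplexShape.up ℤ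

/-- `L₀` is `Q` -/
noncomputable def L₀Q (X : Scheme.{u}) : L₀ X ≅ DerivedCategory.Q :=
  DerivedCategory.quotientCompQhIso X.Modules

/-- `- ⊗^L F` at a K-flat complex -/
noncomputable def ltmQIso (F : X.Modules) [DCoh.HasLTensorMod F] (E : CochainComplex X.Modules ℤ)
    (hE : IsKFlat (T X) E) :
    (DCoh.LTensorMod F).obj (DCoh.toD X E) ≅ DCoh.toD X ((tmCx F).obj E) :=
  (DCoh.LTensorMod F).mapIso ((L₀Q X).symm.app E) ≪≫ ltmIso F E hE ≪≫ (L₀Q X).app _

/-- `Lf^*` at a K-flat complex -/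
noncomputable def lpullQIso (f : X ⟶ Y) [DCoh.HasLpull f] (E : CochainComplex Y.Modules ℤ)
    (hE : IsKFlat (T Y) E) :
    (DCoh.Lpull f).obj (DCoh.toD Y E) ≅ DCoh.toD X ((pullCx f).obj E) :=
  (DCoh.Lpull f).mapIso ((L₀Q Y).symm.app E) ≪≫
    @asIso _ _ _ _ ((pullCounit f).app ((HomotopyCategory.quotient Y.Modules up).obj E))
      (isIso_pullCounit_app f E hE) ≪≫
    (L₀Q X).app ((pullCx f).obj E)

/-- cohomology sheaves of a complex -/
noncomputable def hdIso (E : CochainComplex X.Modules ℤ) (i : ℤ) :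
    DCoh.HD (DCoh.toD X E) i ≅ E.homology i :=
  (DerivedCategory.homologyFunctorFactors X.Modules i).app E

lemma isZero_hd_toD_iff (E : CochainComplex X.Modules ℤ) (i : ℤ) :
    IsZero (DCoh.HD (DCoh.toD X E) i) ↔ E.ExactAt i :=
  (hdIso E i).isZero_iff.trans (exactAt_iff_isZero_homology E i).symm

lemma isZero_hd_of_iso {K L : DCoh.D X} (e : K ≅ L) {i : ℤ} (h : IsZero (DCoh.HD L i)) :
    IsZero (DCoh.HD K i) :=
  IsZero.of_iso h ((DerivedCategory.homologyFunctor X.Modules i).mapIso e)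

lemma isKFlat_of_isFlat_of_vanishes (E : CochainComplex X.Modules ℤ) (a b : ℤ)
    (h0 : DCoh.VanishesOutside E a b) (h : ∀ i, FlatMod.IsFlat (E.X i)) : IsKFlat (T X) E :=
  isKFlat_of_flat (T X) E b (fun q hq => h0 q (.inr hq)) fun q => flat_of_isFlat (h q)

/-- tor amplitude from a flat representative -/
theorem torAmp_of_flatAmp {K : DCoh.D X} {a b : ℤ} (h : DCoh.HasFlatAmplitudeIn a b K) :
    DCoh.HasTorAmplitudeIn a b K := by
  obtain ⟨E, h0, hf, ⟨e⟩⟩ := h
  intro F _ i hi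
  refine isZero_hd_of_iso ((DCoh.LTensorMod F).mapIso e.symm ≪≫
    ltmQIso F E (isKFlat_of_isFlat_of_vanishes E a b h0 hf)) ?_
  rw [isZero_hd_toD_iff]
  exact ExactAt.of_isZero ((DCoh.tensorRightMod F).map_isZero (h0 i hi))

/-- inverse images keep flat amplitude -/
theorem flatAmp_Lpull (f : X ⟶ Y) [DCoh.HasLpull f] {E : DCoh.D Y} {a b : ℤ}
    (hE : DCoh.HasFlatAmplitudeIn a b E) : DCoh.HasFlatAmplitudeIn a b ((DCoh.Lpull f).obj E) := by
  obtain ⟨P, h0, hf, ⟨e⟩⟩ := hE
  exact ⟨(pullCx f).obj P, fun i hi => (Scheme.Modules.pullback f).map_isZero (h0 i hi),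
    fun i => isFlat_pullback f (hf i),
    ⟨(lpullQIso f P (isKFlat_of_isFlat_of_vanishes P a b h0 hf)).symm ≪≫ (DCoh.Lpull f).mapIso e⟩⟩

/-- tor amplitude passes to retracts -/
theorem torAmp_of_retract {K L : DCoh.D X} (i : K ⟶ L) (r : L ⟶ K) (h : i ≫ r = 𝟙 K) {a b : ℤ}
    (hL : DCoh.HasTorAmplitudeIn a b L) : DCoh.HasTorAmplitudeIn a b K := by
  intro F _ n hn
  rw [IsZero.iff_id_eq_zero]
  let G := DCoh.LTensorMod F ⋙ DerivedCategory.homologyFunctor X.Modules n
  have e : G.map i ≫ G.map r = 𝟙 (G.obj K) := by rw [← G.map_comp, h, G.map_id]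
  refine Eq.trans e.symm ?_
  have hz : G.map i = 0 := (hL F n hn).eq_of_tgt _ _
  rw [hz, zero_comp]

/-- a functor of derived categories computed by K-flat complexes carries distinguished triangles to
distinguished triangles, up to isomorphisms of the three objects -/
theorem exists_triangle (G : X.Modules ⥤ Y.Modules) [G.Additive] (LG : DCoh.D X ⥤ DCoh.D Y)
    (hLG : ∀ E, IsKFlat (T X) E →
      Nonempty (LG.obj (DCoh.toD X E) ≅ DCoh.toD Y ((G.mapHomologicalComplex up).obj E)))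
    (S : Triangle (DCoh.D X)) (hS : S ∈ distTriang _) :
    ∃ S' : Triangle (DCoh.D Y), S' ∈ distTriang _ ∧ Nonempty (S'.obj₁ ≅ LG.obj S.obj₁) ∧
      Nonempty (S'.obj₂ ≅ LG.obj S.obj₂) ∧ Nonempty (S'.obj₃ ≅ LG.obj S.obj₃) := by
  obtain ⟨A, B, f, ⟨e⟩⟩ := (DerivedCategory.mem_distTriang_iff S).1 hS
  have := flatResolution_quasiIso A
  have := flatResolution_quasiIso B
  let f' := (flatResolution X).map f
  let eA := asIso (DerivedCategory.Q.map ((flatResolutionAug X).app A))
  let eB := asIso (DerivedCategory.Q.map ((flatResolutionAug X).app B))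
  let eT := isoTriangleOfIso₁₂ _ _ (DerivedCategory.mappingCone_triangle_distinguished f')
    (DerivedCategory.mappingCone_triangle_distinguished f) eA eB (by
      change DerivedCategory.Q.map f' ≫ DerivedCategory.Q.map _ =
        DerivedCategory.Q.map _ ≫ DerivedCategory.Q.map f
      rw [← Functor.map_comp, ← Functor.map_comp]
      exact congrArg _ ((flatResolutionAug X).naturality f))
  let eS := eT ≪≫ e.symm
  have hA := flatResolution_isKFlat A
  have hB := flatResolution_isKFlat B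
  obtain ⟨i₁⟩ := hLG _ hA
  obtain ⟨i₂⟩ := hLG _ hB
  obtain ⟨i₃⟩ := hLG _ (hA.mappingCone (T X) f' hB)
  refine ⟨DerivedCategory.Q.mapTriangle.obj
    (CochainComplex.mappingCone.triangle ((G.mapHomologicalComplex up).map f')),
    DerivedCategory.mappingCone_triangle_distinguished _,
    ⟨i₁.symm ≪≫ LG.mapIso (Triangle.π₁.mapIso eS)⟩, ⟨i₂.symm ≪≫ LG.mapIso (Triangle.π₂.mapIso eS)⟩,
    ⟨DerivedCategory.Q.mapIso (CochainComplex.mappingCone.mapHomologicalComplexIso f' G).symm ≪≫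
      i₃.symm ≪≫ LG.mapIso (Triangle.π₃.mapIso eS)⟩⟩

lemma exists_triangle_ltm (F : X.Modules) [DCoh.HasLTensorMod F] (S : Triangle (DCoh.D X))
    (hS : S ∈ distTriang _) :
    ∃ S' : Triangle (DCoh.D X), S' ∈ distTriang _ ∧
      Nonempty (S'.obj₁ ≅ (DCoh.LTensorMod F).obj S.obj₁) ∧
      Nonempty (S'.obj₂ ≅ (DCoh.LTensorMod F).obj S.obj₂) ∧
      Nonempty (S'.obj₃ ≅ (DCoh.LTensorMod F).obj S.obj₃) :=
  exists_triangle (DCoh.tensorRightMod F) (DCoh.LTensorMod F) (fun E hE => ⟨ltmQIso F E hE⟩) S hS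

/-- tor amplitude of the middle term of a triangle -/
theorem torAmp₂ (S : Triangle (DCoh.D X)) (hS : S ∈ distTriang _) {a b : ℤ}
    (h1 : DCoh.HasTorAmplitudeIn a b S.obj₁) (h3 : DCoh.HasTorAmplitudeIn a b S.obj₃) :
    DCoh.HasTorAmplitudeIn a b S.obj₂ := by
  intro F _ i hi
  obtain ⟨S', hS', ⟨e1⟩, ⟨e2⟩, ⟨e3⟩⟩ := exists_triangle_ltm F S hS
  refine isZero_hd_of_iso e2.symm ?_
  exact (DerivedCategory.HomologySequence.exact₂ S' hS' i).isZero_of_both_zeros
    ((isZero_hd_of_iso e1 (h1 F i hi)).eq_of_src _ _) ((isZero_hd_of_iso e3 (h3 F i hi)).eq_of_tgt _ _)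

/-- tor amplitude of the third term of a triangle -/
theorem torAmp₃ (S : Triangle (DCoh.D X)) (hS : S ∈ distTriang _) {a b : ℤ}
    (h1 : DCoh.HasTorAmplitudeIn (a + 1) (b + 1) S.obj₁) (h2 : DCoh.HasTorAmplitudeIn a b S.obj₂) :
    DCoh.HasTorAmplitudeIn a b S.obj₃ := by
  intro F _ i hi
  obtain ⟨S', hS', ⟨e1⟩, ⟨e2⟩, ⟨e3⟩⟩ := exists_triangle_ltm F S hS
  refine isZero_hd_of_iso e3.symm ?_
  exact (DerivedCategory.HomologySequence.exact₃ S' hS' i (i + 1) rfl).isZero_of_both_zeros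
    ((isZero_hd_of_iso e2 (h2 F i hi)).eq_of_src _ _)
    ((isZero_hd_of_iso e1 (h1 F (i + 1) (by lia))).eq_of_tgt _ _)

/-- tor amplitude of the first term of a triangle -/
theorem torAmp₁ (S : Triangle (DCoh.D X)) (hS : S ∈ distTriang _) {a b : ℤ}
    (h2 : DCoh.HasTorAmplitudeIn (a + 1) (b + 1) S.obj₂) (h3 : DCoh.HasTorAmplitudeIn a b S.obj₃) :
    DCoh.HasTorAmplitudeIn (a + 1) (b + 1) S.obj₁ := by
  intro F _ i hi
  obtain ⟨S', hS', ⟨e1⟩, ⟨e2⟩, ⟨e3⟩⟩ := exists_triangle_ltm F S hS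
  refine isZero_hd_of_iso e1.symm ?_
  exact (DerivedCategory.HomologySequence.exact₁ S' hS' (i - 1) i (by lia)).isZero_of_both_zeros
    ((isZero_hd_of_iso e3 (h3 F (i - 1) (by lia))).eq_of_src _ _)
    ((isZero_hd_of_iso e2 (h2 F i hi)).eq_of_tgt _ _)

/-- if `H^i(E ⊗ G) = 0` for all modules `G`, then `E` is exact at `i` on stalks after tensoring with any module -/
lemma exact_stalk_tensor (E : CochainComplex X.Modules ℤ) (i : ℤ)
    (h : ∀ G : X.Modules, ((tmCx G).obj E).ExactAt i) (x : X) (N : ModuleCat.{u} (X.presheaf.stalk x)) :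
    (((stk x ⋙ tensorLeft N).mapHomologicalComplex up).obj E).ExactAt i := by
  let e : DCoh.tensorRightMod (Groth.QCohMod.sky x N) ⋙ stk x ≅ stk x ⋙ tensorLeft N :=
    tmStkIso _ x ≪≫ Functor.isoWhiskerLeft (stk x) ((curriedTensor _).mapIso (skyStkIso x N))
  refine ExactAt.of_iso ?_ ((NatIso.mapHomologicalComplex e up).app E)
  exact ShortComplex.Exact.map (h (Groth.QCohMod.sky x N)) (stk x)

/-- a complex which stays exact after tensoring with every module is exact -/
lemma exactAt_of_tensor (E : CochainComplex X.Modules ℤ) (i : ℤ)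
    (h : ∀ G : X.Modules, ((tmCx G).obj E).ExactAt i) : E.ExactAt i := by
  rw [exactAt_iff, (stk_jointly (X := X)).exact_iff]
  intro x
  have := (exact_stalk_tensor E i h x (𝟙_ (ModuleCat.{u} (X.presheaf.stalk x)))).of_iso
    ((NatIso.mapHomologicalComplex (Functor.isoWhiskerLeft (stk x) (leftUnitorNatIso _) ≪≫
      Functor.rightUnitor (stk x)) up).app E)
  exact this

/-- the cokernel is flat -/
theorem isFlat_coker (E : CochainComplex X.Modules ℤ) (a : ℤ) (hflat : FlatMod.IsFlat (E.X a))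
    (h : ∀ G : X.Modules, ((tmCx G).obj E).ExactAt (a - 1)) :
    FlatMod.IsFlat (cokernel (E.d (a - 1) a)) := by
  intro x
  have : Module.Flat (X.presheaf.stalk x) ((stk x).obj (E.X a)) := hflat x
  let S := ShortComplex.mk (E.d (a - 1) a) (cokernel.π (E.d (a - 1) a)) (cokernel.condition _)
  have hS : S.Exact := ShortComplex.exact_of_g_is_cokernel _ (cokernelIsCokernel _)
  have hSx := (ShortComplex.ShortExact.moduleCat_exact_iff_function_exact _).1 (hS.map (stk x))
  have hepi : Epi ((stk x).map (cokernel.π (E.d (a - 1) a))) := inferInstance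
  have hfg : ((stk x).map (E.d (a - 1) a)).hom ∘ₗ ((stk x).map (E.d (a - 2) (a - 1))).hom = 0 := by
    rw [← ModuleCat.hom_comp, ← Functor.map_comp, E.d_comp_d, Functor.map_zero]
    rfl
  refine Groth.DerivedCoh.flat_coker ((stk x).map (E.d (a - 2) (a - 1))).hom
    ((stk x).map (E.d (a - 1) a)).hom ((stk x).map (cokernel.π (E.d (a - 1) a))).hom
    ((ModuleCat.epi_iff_surjective _).1 hepi) hSx hfg fun I => ?_
  have hI := exact_stalk_tensor E (a - 1) h x (ModuleCat.of _ (X.presheaf.stalk x ⧸ I))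
  rw [exactAt_iff' _ (a - 2) (a - 1) a (by simp; lia) (by simp)] at hI
  exact (ShortComplex.ShortExact.moduleCat_exact_iff_function_exact _).1 hI

/-- a complex in non-positive degrees which is exact except at `0` computes its cokernel -/
lemma nonempty_coker_iso {E : CochainComplex X.Modules ℤ} {F : X.Modules}
    (α : E ⟶ (single X.Modules up 0).obj F) [QuasiIso α] (h0 : ∀ i, 0 < i → IsZero (E.X i)) :
    Nonempty (cokernel (E.d (-1) 0) ≅ F) := by
  have e1 : E.homology 0 ≅ F :=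
    asIso (homologyMap α 0) ≪≫ singleObjHomologySelfIso up 0 F
  have hd : E.d 0 1 = 0 := (h0 1 (by lia)).eq_of_tgt _ _
  have e2 : cokernel (E.d (-1) 0) ≅ E.opcycles 0 :=
    (IsColimit.coconePointUniqueUpToIso (E.opcyclesIsCokernel (-1) 0 (by simp))
      (cokernelIsCokernel (E.d (-1) 0))).symm
  exact ⟨e2 ≪≫
    (E.isoHomologyι 0 1 (by simp) hd).symm ≪≫ e1⟩

/-- flatness by the vanishing of `Tor₁` -/
theorem isFlat_of_tor_one (F : X.Modules)
    (h : ∀ G : X.Modules, ∀ [DCoh.HasLTensorMod G],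
      IsZero (DCoh.HD ((DCoh.LTensorMod G).obj (DCoh.inD X F)) (-1))) : FlatMod.IsFlat F := by
  let S : CochainComplex X.Modules ℤ := (single X.Modules up 0).obj F
  have h0 : ∀ p, 0 < p → IsZero (S.X p) := fun p hp => isZero_single_obj_X up 0 F p (by lia)
  let α : (schemeCover X).res.obj S ⟶ S := (schemeCover X).resAug.app S
  have hα : QuasiIso α := (schemeCover X).quasiIso_resAug S 0 h0
  have hαi : IsIso (DerivedCategory.Q.map α) := (DerivedCategory.isIso_Q_map_iff_quasiIso _ α).2 hα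
  have hP0 := (schemeCover X).res_X_zero S 0 h0
  have hPf : ∀ n, FlatMod.IsFlat (((schemeCover X).res.obj S).X n) := fun n =>
    (schemeCover X).res_X_prop FlatMod.IsFlat isFlat_coverObj (fun _ => isFlat_of_isZero)
      (fun e h => isFlat_of_iso e.symm h) isFlat_sigma₀ S n
  have hK : IsKFlat (T X) ((schemeCover X).res.obj S) :=
    isKFlat_of_flat (T X) _ 0 hP0 fun q => flat_of_isFlat (hPf q)
  obtain ⟨e⟩ := nonempty_coker_iso α hP0
  refine isFlat_of_iso e.symm (isFlat_coker _ 0 (hPf 0) fun G => ?_)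
  have := hasLTensorMod G
  rw [← isZero_hd_toD_iff, show (0 : ℤ) - 1 = -1 from rfl]
  exact IsZero.of_iso (h G) ((DerivedCategory.homologyFunctor X.Modules (-1)).mapIso
    ((ltmQIso G _ hK).symm ≪≫ (DCoh.LTensorMod G).mapIso (@asIso _ _ _ _ (DerivedCategory.Q.map α) hαi)))

/-- flat modules have tor amplitude `[0, 0]` -/
lemma flatAmp_inD {F : X.Modules} (hF : FlatMod.IsFlat F) :
    DCoh.HasFlatAmplitudeIn 0 0 (DCoh.inD X F) := by
  refine ⟨(single X.Modules up 0).obj F, fun i hi => isZero_single_obj_X up 0 F i (by lia),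
    fun i => ?_, ⟨Iso.refl _⟩⟩
  by_cases hi : i = 0
  · subst hi
    exact isFlat_of_iso (singleObjXSelf up 0 F) hF
  · exact isFlat_of_isZero (isZero_single_obj_X up 0 F i hi)

/-- flat representatives from tor amplitude -/
theorem flatAmp_of_torAmp (K : DCoh.D X) (a b : ℤ) (hab : a ≤ b)
    (h : DCoh.HasTorAmplitudeIn a b K) : DCoh.HasFlatAmplitudeIn a b K := by
  obtain ⟨C, ⟨eC⟩⟩ : ∃ C : CochainComplex X.Modules ℤ, Nonempty (DCoh.toD X C ≅ K) :=
    ⟨_, ⟨DerivedCategory.Q.objObjPreimageIso K⟩⟩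
  have := flatResolution_quasiIso C
  have hPK := flatResolution_isKFlat C
  -- cohomology of `K` lives in degrees `≤ b`
  have hC : C.IsLE b := by
    rw [CochainComplex.isLE_iff]
    intro i hi
    have hP : ((flatResolution X).obj C).ExactAt i := exactAt_of_tensor _ i fun G => by
      have := hasLTensorMod G
      rw [← isZero_hd_toD_iff]
      exact isZero_hd_of_iso ((ltmQIso G _ hPK).symm ≪≫ (DCoh.LTensorMod G).mapIso
        (asIso (DerivedCategory.Q.map ((flatResolutionAug X).app C)) ≪≫ eC)) (h G i (.inr hi))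
    exact (quasiIsoAt_iff_exactAt ((flatResolutionAug X).app C) i hP).1 inferInstance
  -- a bounded above flat representative
  let C' := C.truncLE b
  have h0 : ∀ p, b < p → IsZero (C'.X p) := fun p hp => C'.isZero_of_isStrictlyLE b p hp
  have := (schemeCover X).quasiIso_resAug C' b h0
  let P := (schemeCover X).res.obj C'
  let β : P ⟶ C := (schemeCover X).resAug.app C' ≫ C.ιTruncLE b
  have hP0 : ∀ p, b < p → IsZero (P.X p) := (schemeCover X).res_X_zero C' b h0
  have hPf : ∀ n, FlatMod.IsFlat (P.X n) := fun n =>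
    (schemeCover X).res_X_prop FlatMod.IsFlat isFlat_coverObj (fun _ => isFlat_of_isZero)
      (fun e h => isFlat_of_iso e.symm h) isFlat_sigma₀ C' n
  have hK : IsKFlat (T X) P := isKFlat_of_flat (T X) _ b hP0 fun q => flat_of_isFlat (hPf q)
  have hβ : QuasiIso β := by dsimp [β]; infer_instance
  let eP : DCoh.toD X P ≅ K := asIso (DerivedCategory.Q.map β) ≪≫ eC
  have hex : ∀ i, i < a → ∀ G : X.Modules, ((tmCx G).obj P).ExactAt i := fun i hi G => by
    have := hasLTensorMod G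
    rw [← isZero_hd_toD_iff]
    exact isZero_hd_of_iso ((ltmQIso G _ hK).symm ≪≫ (DCoh.LTensorMod G).mapIso eP) (h G i (.inl hi))
  have hPa : P.IsGE a := by
    rw [CochainComplex.isGE_iff]
    exact fun i hi => exactAt_of_tensor P i (hex i hi)
  have hflat : ∀ i, FlatMod.IsFlat ((P.truncGE a).X i) := fun i => by
    rcases lt_trichotomy i a with hi | rfl | hi
    · exact isFlat_of_isZero ((P.truncGE a).isZero_of_isStrictlyGE a i hi)
    · exact isFlat_of_iso (P.truncGEXIsoOpcycles i ≪≫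
        IsColimit.coconePointUniqueUpToIso (P.opcyclesIsCokernel (i - 1) i (by simp))
          (cokernelIsCokernel _))
        (isFlat_coker P i (hPf i) (hex (i - 1) (by lia)))
    · exact isFlat_of_iso (P.truncGEXIso a i hi) (hPf i)
  refine ⟨P.truncGE a, fun i hi => ?_, hflat,
    ⟨(asIso (DerivedCategory.Q.map (P.πTruncGE a))).symm ≪≫ eP⟩⟩
  rcases hi with hi | hi
  · exact (P.truncGE a).isZero_of_isStrictlyGE a i hi
  · exact (P.truncGEXIso a i (by lia)).isZero_iff.2 (hP0 i hi)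

end Groth.DerivedCoh.KFlat
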