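import Groth.Agent.DerivedCoh.KFlat.Lpull

/-!
`Lf^*` computed by the functorial flat resolution; composition of derived inverse images.
-/

universe u

open CategoryTheory CategoryTheory.Limits AlgebraicGeometry HomologicalComplex

namespace Groth.DerivedCoh.KFlat

attribute [local instance] HasDerivedCategory.standard

variable {X Y Z : Scheme.{u}}

local notation "up" => ComplexShape.up ℤ

/-- the localization functor from complexes -/
noncomputable abbrev L₀ (X : Scheme.{u}) : CochainComplex X.Modules ℤ ⥤ DCoh.D X :=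
  HomotopyCategory.quotient X.Modules up ⋙ DerivedCategory.Qh

lemma isIso_L₀_map {A B : CochainComplex X.Modules ℤ} (α : A ⟶ B) [QuasiIso α] :
    IsIso ((L₀ X).map α) :=
  Localization.inverts (L₀ X) (HomologicalComplex.quasiIso X.Modules up) α
    ((HomologicalComplex.mem_quasiIso_iff α).2 inferInstance)

/-- `Lf^*` is computed by the flat resolution -/
noncomputable def LpullResIso (f : X ⟶ Y) [DCoh.HasLpull f] :
    L₀ Y ⋙ DCoh.Lpull f ≅ flatResolution Y ⋙ pullCx f ⋙ L₀ X :=
  have h1 : ∀ K, IsIso ((Functor.whiskerRight (flatResolutionAug Y) (L₀ Y ⋙ DCoh.Lpull f)).app K) :=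
    fun K => by
      have := flatResolution_quasiIso K
      have := isIso_L₀_map ((flatResolutionAug Y).app K)
      exact inferInstanceAs (IsIso ((DCoh.Lpull f).map ((L₀ Y).map _)))
  have h2 : ∀ K, IsIso ((Functor.whiskerLeft (flatResolution Y ⋙ HomotopyCategory.quotient Y.Modules up)
      (pullCounit f)).app K) :=
    fun K => isIso_pullCounit_app f _ (flatResolution_isKFlat K)
  NatIso.ofComponents
    (fun K =>
      haveI := h1 K
      haveI := h2 K
      (asIso ((Functor.whiskerRight (flatResolutionAug Y) (L₀ Y ⋙ DCoh.Lpull f)).app K)).symm ≪≫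
        @asIso _ _ _ _ ((Functor.whiskerLeft (flatResolution Y ⋙ HomotopyCategory.quotient Y.Modules up)
          (pullCounit f)).app K) (h2 K))
    fun {K L} w => by
      haveI := h1 K
      haveI := h1 L
      haveI := h2 K
      haveI := h2 L
      simp only [Iso.trans_hom, Iso.symm_hom, asIso_inv, asIso_hom, Category.assoc]
      rw [← cancel_epi ((Functor.whiskerRight (flatResolutionAug Y) (L₀ Y ⋙ DCoh.Lpull f)).app K)]
      have n1 := (Functor.whiskerRight (flatResolutionAug Y) (L₀ Y ⋙ DCoh.Lpull f)).naturality w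
      have n2 := (Functor.whiskerLeft (flatResolution Y ⋙ HomotopyCategory.quotient Y.Modules up)
          (pullCounit f)).naturality w
      erw [← reassoc_of% n1]
      simp only [IsIso.hom_inv_id_assoc]
      exact n2

/-- inverse images of complexes compose -/
noncomputable def pullCxComp (f : X ⟶ Y) (g : Y ⟶ Z) :
    pullCx g ⋙ pullCx f ≅ pullCx (f ≫ g) :=
  NatIso.mapHomologicalComplex (Scheme.Modules.pullbackComp f g) up

/-- resolving again is not needed after a pullback -/
noncomputable def resPullIso (f : X ⟶ Y) (g : Y ⟶ Z) :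
    flatResolution Z ⋙ pullCx g ⋙ flatResolution Y ⋙ pullCx f ⋙ L₀ X ≅
      flatResolution Z ⋙ pullCx g ⋙ pullCx f ⋙ L₀ X :=
  have h : ∀ K, IsIso ((Functor.whiskerLeft (flatResolution Z ⋙ pullCx g)
      (Functor.whiskerRight (flatResolutionAug Y) (pullCx f ⋙ L₀ X))).app K) := fun K => by
    have := flatResolution_quasiIso ((pullCx g).obj ((flatResolution Z).obj K))
    have := quasiIso_pullCx f (flatResolution_isKFlat _)
      (isKFlat_pullCx g _ (flatResolution_isKFlat K))
      ((flatResolutionAug Y).app ((pullCx g).obj ((flatResolution Z).obj K)))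
    exact isIso_L₀_map ((pullCx f).map
      ((flatResolutionAug Y).app ((pullCx g).obj ((flatResolution Z).obj K))))
  have := NatIso.isIso_of_isIso_app (Functor.whiskerLeft (flatResolution Z ⋙ pullCx g)
      (Functor.whiskerRight (flatResolutionAug Y) (pullCx f ⋙ L₀ X)))
  asIso (Functor.whiskerLeft (flatResolution Z ⋙ pullCx g)
      (Functor.whiskerRight (flatResolutionAug Y) (pullCx f ⋙ L₀ X)))

/-- `Lf^* ∘ Lg^* = L(g f)^*` -/
theorem Lpull_comp_iso (f : X ⟶ Y) (g : Y ⟶ Z)
    [DCoh.HasLpull f] [DCoh.HasLpull g] [DCoh.HasLpull (f ≫ g)] :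
    Nonempty (DCoh.Lpull g ⋙ DCoh.Lpull f ≅ DCoh.Lpull (f ≫ g)) := by
  let e : L₀ Z ⋙ DCoh.Lpull g ⋙ DCoh.Lpull f ≅ L₀ Z ⋙ DCoh.Lpull (f ≫ g) :=
    (Functor.associator (L₀ Z) (DCoh.Lpull g) (DCoh.Lpull f)).symm ≪≫
    Functor.isoWhiskerRight (LpullResIso g) (DCoh.Lpull f) ≪≫
    Functor.isoWhiskerLeft (flatResolution Z ⋙ pullCx g) (LpullResIso f) ≪≫
    resPullIso f g ≪≫
    Functor.isoWhiskerLeft (flatResolution Z) (Functor.isoWhiskerRight (pullCxComp f g) (L₀ X)) ≪≫
    (LpullResIso (f ≫ g)).symm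
  exact ⟨Localization.liftNatIso (L₀ Z) (HomologicalComplex.quasiIso Z.Modules up)
    (L₀ Z ⋙ DCoh.Lpull g ⋙ DCoh.Lpull f) (L₀ Z ⋙ DCoh.Lpull (f ≫ g)) _ _ e⟩

end Groth.DerivedCoh.KFlat
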