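import Groth.Agent.DerivedCoh.KFlat.TensorAssoc
import Groth.Agent.DerivedCoh.KFlat.TensorPullback
import Groth.Agent.DerivedCoh.KFlat.LpullComp
import Groth.Agent.DerivedCoh.KFlat.Amplitude
import Groth.Prelude.Def_DCoh4
import Mathlib.CategoryTheory.Functor.Derived.PointwiseLeftDerived

/-!
`- ⊗^L E` for a K-flat complex `E`; compatibility with `Lf^*`.
-/

universe u

open CategoryTheory CategoryTheory.Limits AlgebraicGeometry HomologicalComplex

namespace Groth.DerivedCoh.KFlat

attribute [local instance] HasDerivedCategory.standard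

variable {X Y : Scheme.{u}}

local notation "up" => ComplexShape.up ℤ

lemma tensorCxQ_inverts {L : CochainComplex X.Modules ℤ} (hL : IsKFlat (T X) L) :
    (HomologicalComplex.quasiIso X.Modules up).IsInvertedBy (DCoh.tensorCxQ L) := fun A B f hf => by
  have : QuasiIso f := (HomologicalComplex.mem_quasiIso_iff f).1 hf
  have := hL.quasiIso_totL f
  exact (DerivedCategory.isIso_Q_map_iff_quasiIso _ _).2 this

/-- `- ⊗^L L` is `- ⊗ L` when `L` is K-flat -/
noncomputable def ltcxNatIso (L : CochainComplex X.Modules ℤ) (hL : IsKFlat (T X) L)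
    [DCoh.HasLTensorCx L] : DerivedCategory.Q ⋙ DCoh.LTensorCx L ≅ DCoh.tensorCxQ L :=
  haveI : IsIso ((DCoh.tensorCxQ L).totalLeftDerivedCounit DerivedCategory.Q
      (HomologicalComplex.quasiIso X.Modules up)) :=
    Functor.isIso_of_isLeftDerivedFunctor_of_inverts (DCoh.LTensorCx L) _ (tensorCxQ_inverts hL)
  asIso ((DCoh.tensorCxQ L).totalLeftDerivedCounit DerivedCategory.Q
    (HomologicalComplex.quasiIso X.Modules up))

/-- `C ⊗^L L` for K-flat `L` -/
noncomputable def ltcxIso (L : CochainComplex X.Modules ℤ) (hL : IsKFlat (T X) L)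
    [DCoh.HasLTensorCx L] (C : CochainComplex X.Modules ℤ) :
    (DCoh.LTensorCx L).obj (DCoh.toD X C) ≅ DCoh.toD X (tot (T X) C L) :=
  (ltcxNatIso L hL).app C

/-- `- ⊗^L L` exists for K-flat `L` -/
theorem hasLTensorCx_of_isKFlat (L : CochainComplex X.Modules ℤ) (hL : IsKFlat (T X) L) :
    DCoh.HasLTensorCx L :=
  let LF := Localization.lift (DCoh.tensorCxQ L) (tensorCxQ_inverts hL) DerivedCategory.Q
  let e : DerivedCategory.Q ⋙ LF ≅ DCoh.tensorCxQ L := Localization.fac _ _ _
  haveI : LF.IsLeftDerivedFunctor e.hom (HomologicalComplex.quasiIso X.Modules up) :=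
    Functor.isLeftDerivedFunctor_of_inverts _ LF e
  (Functor.hasLeftDerivedFunctor_iff (DCoh.tensorCxQ L) DerivedCategory.Q
    (HomologicalComplex.quasiIso X.Modules up)).2
      (haveI := Functor.IsLeftDerivedFunctor.isRightKanExtension
        (W := HomologicalComplex.quasiIso X.Modules up) LF e.hom
      Functor.HasRightKanExtension.mk LF e.hom)

/-- the bicomplexes `f^*(K ⊗ L)` and `f^*K ⊗ f^*L` -/
noncomputable def pullBiIso (f : X ⟶ Y) (K L : CochainComplex Y.Modules ℤ) :
    (mapBi (Scheme.Modules.pullback f)).obj (((Bi (T Y)).obj K).obj L) ≅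
      ((Bi (T X)).obj ((pullCx f).obj K)).obj ((pullCx f).obj L) :=
  HomologicalComplex.Hom.isoOfComponents
    (fun p => HomologicalComplex.Hom.isoOfComponents (fun q => pullTensor f (K.X p) (L.X q))
      fun q q' _ => (pullTensor_right f (K.X p) (L.d q q')).symm)
    fun p p' _ => HomologicalComplex.hom_ext _ _ fun q =>
      (pullTensor_left f (K.d p p') (L.X q)).symm

/-- `f^*(K ⊗ L) ≅ f^*K ⊗ f^*L` for complexes -/
noncomputable def pullTotIso (f : X ⟶ Y) (K L : CochainComplex Y.Modules ℤ) :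
    (pullCx f).obj (tot (T Y) K L) ≅ tot (T X) ((pullCx f).obj K) ((pullCx f).obj L) :=
  haveI : ∀ J : Type, PreservesColimitsOfShape (Discrete J) (Scheme.Modules.pullback f) :=
    fun _ => inferInstance
  (totalMapIso (Scheme.Modules.pullback f) (((Bi (T Y)).obj K).obj L)).symm ≪≫
    HomologicalComplex₂.total.mapIso (pullBiIso f K L) up

/-- `Lf^*` commutes with `⊗^L` -/
theorem Lpull_LTensor (f : X ⟶ Y) [DCoh.HasLpull f] (L : CochainComplex Y.Modules ℤ)
    (hL : IsKFlat (T Y) L) [DCoh.HasLTensorCx L] [DCoh.HasLTensorCx ((pullCx f).obj L)]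
    (K : DCoh.D Y) :
    Nonempty ((DCoh.Lpull f).obj ((DCoh.LTensorCx L).obj K) ≅
      (DCoh.LTensorCx ((pullCx f).obj L)).obj ((DCoh.Lpull f).obj K)) := by
  let F := DerivedCategory.Q.objPreimage K
  have := flatResolution_quasiIso F
  let C := (flatResolution Y).obj F
  have hC : IsKFlat (T Y) C := flatResolution_isKFlat F
  let eC : DCoh.toD Y C ≅ K :=
    asIso (DerivedCategory.Q.map ((flatResolutionAug Y).app F)) ≪≫
      DerivedCategory.Q.objObjPreimageIso K
  exact ⟨(DCoh.Lpull f).mapIso ((DCoh.LTensorCx L).mapIso eC.symm ≪≫ ltcxIso L hL C) ≪≫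
    lpullQIso f _ (isKFlat_tot hC hL) ≪≫ DerivedCategory.Q.mapIso (pullTotIso f C L) ≪≫
    (ltcxIso _ (isKFlat_pullCx f L hL) _).symm ≪≫
    (DCoh.LTensorCx ((pullCx f).obj L)).mapIso
      ((lpullQIso f C hC).symm ≪≫ (DCoh.Lpull f).mapIso eC)⟩

end Groth.DerivedCoh.KFlat
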