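import Groth.Agent.DerivedCoh.KFlat.SchemeStalk
import Groth.Agent.DerivedCoh.KFlat.Generic
import Groth.Agent.SiteCohomology.SchemeModules
import Groth.Agent.DerivedCoh.KInj.Small
import Groth.Agent.EtaleAlgebra.GlueFlat
import Mathlib.CategoryTheory.Abelian.GrothendieckCategory.Basic

/-!
K-flat complexes on a scheme.
-/

universe u

open CategoryTheory CategoryTheory.Limits AlgebraicGeometry MonoidalCategory

namespace Groth.DerivedCoh.KFlat

variable {X : Scheme.{u}}

instance hasColimitsOfShape_type0 (J : Type) [SmallCategory J] : HasColimitsOfShape J X.Modules :=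
  HasColimitsOfSize.has_colimits_of_shape J

instance hasExactColimitsOfShape_discrete (J : Type) :
    HasExactColimitsOfShape (Discrete J) X.Modules :=
  HasExactColimitsOfShape.of_domain_equivalence X.Modules
    (Discrete.equivalence (Equiv.ulift : ULift.{u} J ≃ J))

instance hasExactColimitsOfShape_nat' : HasExactColimitsOfShape ℕ X.Modules :=
  Groth.DerivedCoh.KInjSmall.hasExactColimitsOfShape_nat

/-- the tensor product bifunctor of `O_X`-modules -/
noncomputable abbrev T (X : Scheme.{u}) : X.Modules ⥤ X.Modules ⥤ X.Modules := DCoh.tensorBi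

lemma flat_of_isFlat {N : X.Modules} (h : FlatMod.IsFlat N) : Flat (T X) N :=
  fun S hS => shortExact_tensorRight_of_flat N h S hS

lemma flat_flip_of_isFlat {N : X.Modules} (h : FlatMod.IsFlat N) : Flat (T X).flip N :=
  fun S hS => shortExact_tensorLeft_of_flat N h S hS

lemma isKFlat_iff (E : CochainComplex X.Modules ℤ) : DCoh.IsKFlat E ↔ IsKFlat (T X) E := by
  constructor
  · exact fun h L hL i => (HomologicalComplex.exactAt_iff_isZero_homology _ _).2
      (h L (fun j => (hL j).isZero_homology) i)
  · exact fun h L hL i => (h L (fun j =>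
      (HomologicalComplex.exactAt_iff_isZero_homology _ _).2 (hL j)) i).isZero_homology

/-- a short exact sequence with flat cokernel stays exact after tensoring with anything -/
lemma shortExact_tensor_of_flat₃ (S : ShortComplex X.Modules) (hS : S.ShortExact)
    (h3 : FlatMod.IsFlat S.X₃) (Y : X.Modules) : (S.map ((T X).obj Y)).ShortExact := by
  rw [shortExact_iff_stk]
  intro x
  have : Module.Flat (X.presheaf.stalk x) (S.map (stk x)).X₃ := h3 x
  have h := (shortExact_iff_stk S).1 hS x
  refine ShortComplex.shortExact_of_iso (S.mapNatIso (tensorStkIso Y x)).symm ?_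
  change ((S.map (stk x)).map (tensorLeft ((stk x).obj Y))).ShortExact
  have he : Epi (S.map (stk x)).g := h.epi_g
  have hs := (ModuleCat.epi_iff_surjective _).1 he
  have hx := (ShortComplex.ShortExact.moduleCat_exact_iff_function_exact _).1 h.exact
  refine
    { exact := (ShortComplex.ShortExact.moduleCat_exact_iff_function_exact _).2
        (lTensor_exact ((stk x).obj Y) hx hs)
      mono_f := (ModuleCat.mono_iff_injective _).2 ?_
      epi_g := (ModuleCat.epi_iff_surjective _).2 (LinearMap.lTensor_surjective _ hs) }
  change Function.Injective ((S.map (stk x)).f.hom.lTensor ((stk x).obj Y))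
  rw [LinearMap.lTensor_inj_iff_rTensor_inj]
  exact Groth.EtaleAlgebra.rTensor_injective_of_exact
    ((ModuleCat.mono_iff_injective _).1 h.mono_f) hs hx _

end Groth.DerivedCoh.KFlat
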