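import Groth.Agent.DerivedCoh.KFlat.SchemeResolution
import Groth.Agent.PicAux.TensorLift
import Mathlib.Algebra.Homology.BifunctorAssociator

/-!
Associativity of the tensor product of complexes of modules; tensor products of K-flat complexes.
-/

universe u

open CategoryTheory CategoryTheory.Limits AlgebraicGeometry HomologicalComplex
open Groth.PicAux (tmulSec)

namespace Groth.DerivedCoh.KFlat

variable {X : Scheme.{u}}

local notation "up" => ComplexShape.up ℤ

/-- `(L ⊗ M) ⊗ N ≅ L ⊗ (M ⊗ N)` -/
noncomputable def assocApp (L M N : X.Modules) :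
    ((T X).obj (((T X).obj L).obj M)).obj N ≅ ((T X).obj L).obj (((T X).obj M).obj N) :=
  (Groth.PicAux.exists_associator L M N).choose

lemma assocApp_tmul (L M N : X.Modules) (W : X.Opens) (a : Γ(L, W)) (b : Γ(M, W)) (c : Γ(N, W)) :
    (assocApp L M N).hom.app W
      (tmulSec (tmulSec a b : Γ(CohB1.tensorMod L M, W)) c :
        Γ(CohB1.tensorMod (CohB1.tensorMod L M) N, W)) =
      tmulSec a (tmulSec b c : Γ(CohB1.tensorMod M N, W)) :=
  (Groth.PicAux.exists_associator L M N).choose_spec W a b c

lemma assocApp₃ (L M : X.Modules) {N N' : X.Modules} (φ : N ⟶ N') :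
    ((T X).obj (((T X).obj L).obj M)).map φ ≫ (assocApp L M N').hom =
      (assocApp L M N).hom ≫ ((T X).obj L).map (((T X).obj M).map φ) := by
  refine Groth.PicAux.tensor_hom_ext₃ fun W a b c => ?_
  change (assocApp L M N').hom.app W ((((T X).obj (((T X).obj L).obj M)).map φ).app W
      (tmulSec (tmulSec a b : Γ(CohB1.tensorMod L M, W)) c :
        Γ(CohB1.tensorMod (CohB1.tensorMod L M) N, W))) =
    (((T X).obj L).map (((T X).obj M).map φ)).app W ((assocApp L M N).hom.app W
      (tmulSec (tmulSec a b : Γ(CohB1.tensorMod L M, W)) c :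
        Γ(CohB1.tensorMod (CohB1.tensorMod L M) N, W)))
  rw [assocApp_tmul]
  refine Eq.trans (congrArg _ (tensorMap_tmulSec (((T X).obj L).obj M) φ W _ c)) ?_
  refine Eq.trans (assocApp_tmul L M N' W a b _) ?_
  exact ((tensorMap_tmulSec L (((T X).obj M).map φ) W a _).trans
    (congrArg (fun z => (tmulSec a z : Γ(CohB1.tensorMod L (CohB1.tensorMod M N'), W)))
      (tensorMap_tmulSec M φ W b c))).symm

lemma assocApp₂ (L : X.Modules) {M M' : X.Modules} (ψ : M ⟶ M') (N : X.Modules) :
    ((T X).map (((T X).obj L).map ψ)).app N ≫ (assocApp L M' N).hom =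
      (assocApp L M N).hom ≫ ((T X).obj L).map (((T X).map ψ).app N) := by
  refine Groth.PicAux.tensor_hom_ext₃ fun W a b c => ?_
  change (assocApp L M' N).hom.app W ((((T X).map (((T X).obj L).map ψ)).app N).app W
      (tmulSec (tmulSec a b : Γ(CohB1.tensorMod L M, W)) c :
        Γ(CohB1.tensorMod (CohB1.tensorMod L M) N, W))) =
    (((T X).obj L).map (((T X).map ψ).app N)).app W ((assocApp L M N).hom.app W
      (tmulSec (tmulSec a b : Γ(CohB1.tensorMod L M, W)) c :
        Γ(CohB1.tensorMod (CohB1.tensorMod L M) N, W)))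
  rw [assocApp_tmul]
  refine Eq.trans (congrArg _ ((tensorMap_left_tmulSec (((T X).obj L).map ψ) N W _ c).trans
    (congrArg (fun z => (tmulSec z c : Γ(CohB1.tensorMod (CohB1.tensorMod L M') N, W)))
      (tensorMap_tmulSec L ψ W a b)))) ?_
  refine Eq.trans (assocApp_tmul L M' N W a _ c) ?_
  exact ((tensorMap_tmulSec L (((T X).map ψ).app N) W a _).trans
    (congrArg (fun z => (tmulSec a z : Γ(CohB1.tensorMod L (CohB1.tensorMod M' N), W)))
      (tensorMap_left_tmulSec ψ N W b c))).symm

lemma assocApp₁ {L L' : X.Modules} (χ : L ⟶ L') (M N : X.Modules) :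
    ((T X).map (((T X).map χ).app M)).app N ≫ (assocApp L' M N).hom =
      (assocApp L M N).hom ≫ ((T X).map χ).app (((T X).obj M).obj N) := by
  refine Groth.PicAux.tensor_hom_ext₃ fun W a b c => ?_
  change (assocApp L' M N).hom.app W ((((T X).map (((T X).map χ).app M)).app N).app W
      (tmulSec (tmulSec a b : Γ(CohB1.tensorMod L M, W)) c :
        Γ(CohB1.tensorMod (CohB1.tensorMod L M) N, W))) =
    (((T X).map χ).app (((T X).obj M).obj N)).app W ((assocApp L M N).hom.app W
      (tmulSec (tmulSec a b : Γ(CohB1.tensorMod L M, W)) c :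
        Γ(CohB1.tensorMod (CohB1.tensorMod L M) N, W)))
  rw [assocApp_tmul]
  refine Eq.trans (congrArg _ ((tensorMap_left_tmulSec (((T X).map χ).app M) N W _ c).trans
    (congrArg (fun z => (tmulSec z c : Γ(CohB1.tensorMod (CohB1.tensorMod L' M) N, W)))
      (tensorMap_left_tmulSec χ M W a b)))) ?_
  refine Eq.trans (assocApp_tmul L' M N W _ b c) ?_
  exact (tensorMap_left_tmulSec χ (((T X).obj M).obj N) W a _).symm

/-- the associator of the tensor product of modules -/
noncomputable def assocIso (X : Scheme.{u}) :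
    bifunctorComp₁₂ (T X) (T X) ≅ bifunctorComp₂₃ (T X) (T X) :=
  NatIso.ofComponents
    (fun L => NatIso.ofComponents
      (fun M => NatIso.ofComponents (fun N => assocApp L M N) fun φ => assocApp₃ L M φ)
      fun ψ => NatTrans.ext <| funext fun N => assocApp₂ L ψ N)
    fun χ => NatTrans.ext <| funext fun M => NatTrans.ext <| funext fun N => assocApp₁ χ M N

/-- associativity of the tensor product of complexes -/
noncomputable def totAssoc (K₁ K₂ K₃ : CochainComplex X.Modules ℤ) :
    tot (T X) (tot (T X) K₁ K₂) K₃ ≅ tot (T X) K₁ (tot (T X) K₂ K₃) :=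
  haveI := fun (N : X.Modules) (J : Type) =>
    preservesColimitsOfShape_tensorBi_flip (J := Discrete J) N
  mapBifunctorAssociator (assocIso X) K₁ K₂ K₃ up up up

/-- the tensor product of two K-flat complexes is K-flat -/
theorem isKFlat_tot {A B : CochainComplex X.Modules ℤ} (hA : IsKFlat (T X) A)
    (hB : IsKFlat (T X) B) : IsKFlat (T X) (tot (T X) A B) := fun N hN i =>
  (hB _ (hA N hN) i).of_iso (totAssoc N A B)

end Groth.DerivedCoh.KFlat
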