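import Groth.Agent.DerivedCoh.KInj.AcyclicMono
import Mathlib.Algebra.Homology.HomotopyCategory.MappingCone
import Mathlib.Algebra.Homology.HomotopyCategory.Pretriangulated
import Mathlib.Algebra.Homology.HomologicalComplexBiprod

/-!
Functors on complexes which preserve acyclic complexes, degreewise split exact sequences and
homotopies preserve quasi-isomorphisms. Colimits of eventually constant sequences.
-/

universe w v u v' u' t

set_option backward.defeqAttrib.useBackward true
set_option backward.isDefEq.respectTransparency false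

namespace Groth.DerivedCoh.KFlat

open CategoryTheory CategoryTheory.Limits HomologicalComplex

section acyclic

variable {A : Type u} [Category.{v} A] [Abelian A] {ι : Type t} {c : ComplexShape ι}
  {S : ShortComplex (HomologicalComplex A c)}

lemma acyclic₂ (hS : S.ShortExact) (h₁ : S.X₁.Acyclic) (h₃ : S.X₃.Acyclic) : S.X₂.Acyclic :=
  fun i => hS.exactAt_X₂ i (h₁ i) (h₃ i)

lemma acyclic₁ (hS : S.ShortExact) (h₂ : S.X₂.Acyclic) (h₃ : S.X₃.Acyclic) : S.X₁.Acyclic :=
  fun i => hS.exactAt_X₁ i ⟨fun a b _ => (h₂ i).isZero_homology.eq_of_tgt a b⟩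
    fun j _ => ⟨fun a b _ => (h₃ j).isZero_homology.eq_of_src a b⟩

lemma acyclic₃ (hS : S.ShortExact) (h₁ : S.X₁.Acyclic) (h₂ : S.X₂.Acyclic) : S.X₃.Acyclic :=
  fun i => hS.exactAt_X₃ i ⟨fun a b _ => (h₂ i).isZero_homology.eq_of_src a b⟩
    fun j _ => ⟨fun a b _ => (h₁ j).isZero_homology.eq_of_tgt a b⟩

lemma quasiIso_g_of_acyclic (hS : S.ShortExact) (h₁ : S.X₁.Acyclic) : QuasiIso S.g := by
  rw [quasiIso_iff]
  intro i
  rw [quasiIsoAt_iff_isIso_homologyMap]
  have hz : ∀ j, IsZero (S.X₁.homology j) := fun j => (h₁ j).isZero_homology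
  have : Mono (homologyMap S.g i) :=
    (hS.homology_exact₂ i).mono_g ((hz i).eq_of_src _ _)
  have : Epi (homologyMap S.g i) := by
    by_cases hi : ∃ j, c.Rel i j
    · obtain ⟨j, hj⟩ := hi
      exact (hS.homology_exact₃ i j hj).epi_f ((hz j).eq_of_tgt _ _)
    · have := hS.epi_g
      exact epi_homologyMap_of_epi_of_not_rel S.g i (by simpa using hi)
  exact isIso_of_mono_of_epi _

lemma quasiIso_of_epi {K L : HomologicalComplex A c} (g : K ⟶ L) [Epi g]
    (h : (kernel g).Acyclic) : QuasiIso g :=
  quasiIso_g_of_acyclic (S := ShortComplex.mk (kernel.ι g) g (kernel.condition g))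
    { exact := ShortComplex.exact_of_f_is_kernel _ (kernelIsKernel g) } h

end acyclic

section functor

variable {A : Type u} [Category.{v} A] [Abelian A] {B : Type u'} [Category.{v'} B] [Abelian B]

/-- A functor on complexes which preserves acyclic complexes, degreewise split short exact
sequences and homotopies preserves quasi-isomorphisms. -/
lemma quasiIso_map_of_acyclic (G : CochainComplex A ℤ ⥤ CochainComplex B ℤ) [G.Additive]
    (hac : ∀ K, K.Acyclic → (G.obj K).Acyclic)
    (hses : ∀ S : ShortComplex (CochainComplex A ℤ),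
      (∀ n, Nonempty (S.map (eval A (ComplexShape.up ℤ) n)).Splitting) → (S.map G).ShortExact)
    (hhom : ∀ (K L : CochainComplex A ℤ) (f g : K ⟶ L),
      Homotopy f g → Nonempty (Homotopy (G.map f) (G.map g)))
    {K L : CochainComplex A ℤ} (f : K ⟶ L) [QuasiIso f] : QuasiIso (G.map f) := by
  let C := CochainComplex.mappingCone (𝟙 K)
  let i : K ⟶ C := CochainComplex.mappingCone.inr (𝟙 K)
  let g : K ⟶ L ⊞ C := biprod.lift f i
  let p : L ⊞ C ⟶ L := biprod.fst
  let hC : Homotopy (𝟙 C) 0 := CochainComplex.mappingCone.homotopyToZeroOfId K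
  let h₁ : Homotopy (p ≫ biprod.inl) (𝟙 (L ⊞ C)) :=
    (Homotopy.ofEq (by simp [p])).trans
      (((Homotopy.refl (p ≫ biprod.inl)).add
          (((hC.symm).compRight (biprod.inr : C ⟶ L ⊞ C)).compLeft biprod.snd)).trans
        (Homotopy.ofEq (by simp [p, biprod.total])))
  let e : HomotopyEquiv (L ⊞ C) L :=
    ⟨p, biprod.inl, h₁, Homotopy.ofEq (by simp [p])⟩
  have hp : QuasiIso p := homotopyEquivalences_le_quasiIso _ _ _ e.homotopyEquivalences_hom
  have hGp : QuasiIso (G.map p) := by
    let e' : HomotopyEquiv (G.obj (L ⊞ C)) (G.obj L) :=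
      ⟨G.map p, G.map biprod.inl,
        (Homotopy.ofEq (G.map_comp _ _).symm).trans
          ((hhom _ _ _ _ e.homotopyHomInvId).some.trans (Homotopy.ofEq (G.map_id _))),
        (Homotopy.ofEq (G.map_comp _ _).symm).trans
          ((hhom _ _ _ _ e.homotopyInvHomId).some.trans (Homotopy.ofEq (G.map_id _)))⟩
    exact homotopyEquivalences_le_quasiIso _ _ _ e'.homotopyEquivalences_hom
  have hgp : g ≫ p = f := biprod.lift_fst _ _
  have : QuasiIso (g ≫ p) := hgp ▸ inferInstance
  have hg : QuasiIso g := quasiIso_of_comp_right g p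
  let r : ∀ n, (L ⊞ C).X n ⟶ K.X n := fun n =>
    (biprod.snd : L ⊞ C ⟶ C).f n ≫
      (CochainComplex.mappingCone.snd (𝟙 K)).v n n (add_zero n)
  have hr : ∀ n, g.f n ≫ r n = 𝟙 _ := fun n => by
    rw [← Category.assoc, ← comp_f, biprod.lift_snd]
    exact CochainComplex.mappingCone.inr_f_snd_v _ _
  have : ∀ n, Mono (g.f n) := fun n => mono_of_mono_fac (hr n)
  have : Mono g := mono_of_mono_f g inferInstance
  let S := ShortComplex.mk g (cokernel.π g) (cokernel.condition g)
  have hS : S.ShortExact := { exact := ShortComplex.exact_of_g_is_cokernel _ (cokernelIsCokernel g) }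
  have hsplit : ∀ n, Nonempty (S.map (eval A (ComplexShape.up ℤ) n)).Splitting := fun n =>
    have hn := hS.map_of_exact (eval A (ComplexShape.up ℤ) n)
    ⟨ShortComplex.Splitting.ofExactOfRetraction _ hn.exact (r n) (hr n) hn.epi_g⟩
  have hGg : QuasiIso (G.map g) :=
    (quasiIso_f_iff_acyclic (S.map G) (hses S hsplit)).2
      (hac _ ((quasiIso_f_iff_acyclic S hS).1 hg))
  rw [← hgp, G.map_comp]
  infer_instance

end functor

section eventually

variable {E : Type u} [Category.{v} E]

/-- a cocone over a sequence whose legs are eventually isomorphisms is a colimit -/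
noncomputable def isColimitOfEventuallyIso {X : ℕ ⥤ E} (c : Cocone X) (n₀ : ℕ)
    (h : ∀ n, n₀ ≤ n → IsIso (c.ι.app n)) : IsColimit c :=
  have := h n₀ le_rfl
  { desc := fun s => inv (c.ι.app n₀) ≫ s.ι.app n₀
    fac := fun s n => by
      rcases le_total n n₀ with hn | hn
      · rw [← c.w (homOfLE hn), Category.assoc, IsIso.hom_inv_id_assoc, s.w]
      · have := h n hn
        have e : X.map (homOfLE hn) = c.ι.app n₀ ≫ inv (c.ι.app n) := by
          rw [IsIso.eq_comp_inv, c.w]
        rw [← s.w (homOfLE hn), e]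
        simp
    uniq := fun s m hm => by rw [IsIso.eq_inv_comp]; exact hm n₀ }

end eventually

end Groth.DerivedCoh.KFlat
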