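import Groth.Agent.DerivedCoh.KFlat.Total
import Groth.Agent.DerivedCoh.KFlat.Basic
import Mathlib.Algebra.Homology.Single
import Mathlib.Algebra.Homology.TotalComplexSymmetry
import Mathlib.CategoryTheory.Functor.OfSequence

/-!
The total complex of a bicomplex with acyclic rows, bounded above in the row index, is acyclic.
-/

universe w v u

set_option backward.defeqAttrib.useBackward true
set_option backward.isDefEq.respectTransparency false

namespace Groth.DerivedCoh.KFlat

open CategoryTheory CategoryTheory.Limits HomologicalComplex ZeroObject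

section ge

variable {A : Type u} [Category.{v} A] [Abelian A] (E : CochainComplex A ℤ)

/-- the objects of the brutal truncation -/
noncomputable def geX (k q : ℤ) : A := if k ≤ q then E.X q else 0

/-- inclusion of the brutal truncation -/
noncomputable def geι (k q : ℤ) : geX E k q ⟶ E.X q :=
  if h : k ≤ q then eqToHom (if_pos h) else 0

/-- projection to the brutal truncation -/
noncomputable def geπ (k q : ℤ) : E.X q ⟶ geX E k q :=
  if h : k ≤ q then eqToHom (if_pos h).symm else 0

lemma isZero_geX {k q : ℤ} (h : q < k) : IsZero (geX E k q) := by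
  rw [geX, if_neg (by lia)]
  exact isZero_zero A

@[reassoc]
lemma geι_π (k q : ℤ) : geι E k q ≫ geπ E k q = 𝟙 _ := by
  rcases le_or_gt k q with h | h
  · simp [geι, geπ, h]
  · exact (isZero_geX E h).eq_of_src _ _

@[reassoc]
lemma geπ_ι {k q : ℤ} (h : k ≤ q) : geπ E k q ≫ geι E k q = 𝟙 _ := by simp [geι, geπ, h]

lemma geι_eq_zero {k q : ℤ} (h : q < k) : geι E k q = 0 := (isZero_geX E h).eq_of_src _ _

lemma geπ_eq_zero {k q : ℤ} (h : q < k) : geπ E k q = 0 := (isZero_geX E h).eq_of_tgt _ _

lemma isIso_geι {k q : ℤ} (h : k ≤ q) : IsIso (geι E k q) :=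
  ⟨geπ E k q, geι_π E k q, geπ_ι E h⟩

lemma geι_comm (k q q' : ℤ) (hq : q + 1 = q') :
    (geι E k q ≫ E.d q q' ≫ geπ E k q') ≫ geι E k q' = geι E k q ≫ E.d q q' := by
  rcases le_or_gt k q with h | h
  · simp [geπ_ι E (show k ≤ q' by lia)]
  · simp [geι_eq_zero E h]

/-- the subcomplex of degrees `≥ k` -/
noncomputable def ge (k : ℤ) : CochainComplex A ℤ where
  X := geX E k
  d q q' := geι E k q ≫ E.d q q' ≫ geπ E k q'
  shape q q' h := by simp [E.shape q q' h]
  d_comp_d' q q' q'' h h' := by
    simp only [ComplexShape.up_Rel] at h h'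
    calc (geι E k q ≫ E.d q q' ≫ geπ E k q') ≫ geι E k q' ≫ E.d q' q'' ≫ geπ E k q''
        = ((geι E k q ≫ E.d q q' ≫ geπ E k q') ≫ geι E k q') ≫ E.d q' q'' ≫ geπ E k q'' := by
          simp
      _ = 0 := by rw [geι_comm E k q q' h]; simp

/-- the inclusion -/
noncomputable def geHom (k : ℤ) : ge E k ⟶ E where
  f := geι E k
  comm' q q' h := (geι_comm E k q q' h).symm

/-- transition maps -/
noncomputable def geTrans (k k' : ℤ) (hk : k' ≤ k) : ge E k ⟶ ge E k' where
  f q := geι E k q ≫ geπ E k' q
  comm' q q' h := by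
    simp only [ComplexShape.up_Rel] at h
    change (geι E k q ≫ geπ E k' q) ≫ geι E k' q ≫ E.d q q' ≫ geπ E k' q' =
      (geι E k q ≫ E.d q q' ≫ geπ E k q') ≫ geι E k q' ≫ geπ E k' q'
    rw [← Category.assoc (geι E k q ≫ E.d q q' ≫ geπ E k q') (geι E k q'), geι_comm E k q q' h]
    rcases le_or_gt k q with h₁ | h₁
    · simp [geπ_ι_assoc E (show k' ≤ q by lia)]
    · simp [geι_eq_zero E h₁]

lemma geTrans_hom (k k' : ℤ) (hk : k' ≤ k) : geTrans E k k' hk ≫ geHom E k' = geHom E k := by
  ext q
  change (geι E k q ≫ geπ E k' q) ≫ geι E k' q = geι E k q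
  rcases le_or_gt k q with h | h
  · simp [geπ_ι E (show k' ≤ q by lia)]
  · simp [geι_eq_zero E h]

/-- the projection to the lowest term -/
noncomputable def geBottom (k : ℤ) :
    ge E k ⟶ (single A (ComplexShape.up ℤ) k).obj (E.X k) :=
  mkHomToSingle (geι E k k) fun i hi => by
    simp only [ComplexShape.up_Rel] at hi
    exact (isZero_geX E (show i < k by lia)).eq_of_src _ _

lemma geTrans_bottom (k : ℤ) : geTrans E (k + 1) k (by lia) ≫ geBottom E k = 0 := by
  ext
  exact (isZero_geX E (show k < k + 1 by lia)).eq_of_src _ _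

/-- the sequence `σ≥(k+1) → σ≥k → E^k[-k]` -/
noncomputable abbrev geSC (k : ℤ) : ShortComplex (CochainComplex A ℤ) :=
  ShortComplex.mk _ _ (geTrans_bottom E k)

/-- degreewise splitting -/
noncomputable def geSplitting (k q : ℤ) :
    ((geSC E k).map (eval A (ComplexShape.up ℤ) q)).Splitting where
  r := geι E k q ≫ geπ E (k + 1) q
  s := if h : q = k then
    (singleObjXIsoOfEq (ComplexShape.up ℤ) k (E.X k) q h).hom ≫
      eqToHom (by rw [h]) ≫ geπ E k q else 0
  f_r := by
    change (geι E (k + 1) q ≫ geπ E k q) ≫ geι E k q ≫ geπ E (k + 1) q = 𝟙 _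
    rcases le_or_gt (k + 1) q with h | h
    · simp [geπ_ι_assoc E (show k ≤ q by lia), geι_π]
    · exact (isZero_geX E h).eq_of_src _ _
  s_g := by
    by_cases h : q = k
    · obtain rfl : k = q := h.symm
      simp [geBottom, geπ_ι_assoc, ge, singleObjXSelf]
    · exact (isZero_single_obj_X (ComplexShape.up ℤ) k (E.X k) q h).eq_of_src _ _
  id := by
    change (geι E k q ≫ geπ E (k + 1) q) ≫ geι E (k + 1) q ≫ geπ E k q + _ = 𝟙 (geX E k q)
    rcases lt_trichotomy q k with h | h | h
    · exact (isZero_geX E h).eq_of_src _ _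
    · subst h
      simp [geBottom, geι_eq_zero E (show q < q + 1 by lia), geι_π, ge, singleObjXSelf]
    · rw [dif_neg (by lia), comp_zero, add_zero, Category.assoc,
        geπ_ι_assoc E (show k + 1 ≤ q by lia), geι_π]

lemma shortExact_geSC (k : ℤ) : (geSC E k).ShortExact :=
  HomologicalComplex.shortExact_of_degreewise_shortExact _ fun q =>
    (geSplitting E k q).shortExact

/-- the sequence of truncations -/
noncomputable def geSeq (b : ℤ) : ℕ ⥤ CochainComplex A ℤ :=
  Functor.ofSequence (X := fun n : ℕ => ge E (b + 1 - n))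
    fun n => geTrans E _ _ (by lia)

/-- the cocone of truncations -/
noncomputable def geCocone (b : ℤ) : Cocone (geSeq E b) where
  pt := E
  ι := NatTrans.ofSequence (fun n => geHom E (b + 1 - n)) fun n => by
    simp [geSeq, geTrans_hom]

/-- the truncations exhaust `E`, compatibly with any functor -/
noncomputable def isColimitGe (b q : ℤ) {B : Type*} [Category B] (G : A ⥤ B) :
    IsColimit ((eval A (ComplexShape.up ℤ) q ⋙ G).mapCocone (geCocone E b)) :=
  isColimitOfEventuallyIso _ (b + 1 - q).toNat fun n hn => by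
    have := isIso_geι E (k := b + 1 - n) (q := q) (by lia)
    exact inferInstanceAs (IsIso (G.map (geι E (b + 1 - n) q)))

end ge

section total

variable {D : Type u} [Category.{v} D] [Abelian D]
  [∀ J : Type, HasColimitsOfShape (Discrete J) D]
  [∀ J : Type, HasExactColimitsOfShape (Discrete J) D]
  [HasColimitsOfShape ℕ D] [HasExactColimitsOfShape ℕ D]

local notation "up" => ComplexShape.up ℤ

instance : (HomologicalComplex₂.flipFunctor D up up).Additive where
  map_add {K L f g} := by
    refine HomologicalComplex.hom_ext _ _ fun q => HomologicalComplex.hom_ext _ _ fun p => ?_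
    rfl

/-- total complex of a bicomplex given as a complex of rows -/
noncomputable abbrev rowsTotal : CochainComplex (CochainComplex D ℤ) ℤ ⥤ CochainComplex D ℤ :=
  HomologicalComplex₂.flipFunctor D up up ⋙ HomologicalComplex₂.totalFunctor D up up up

lemma shortExact_rowsTotal (S : ShortComplex (CochainComplex (CochainComplex D ℤ) ℤ))
    (h : ∀ q p, ((S.map (eval _ up q)).map (eval D up p)).ShortExact) :
    (S.map rowsTotal).ShortExact :=
  shortExact_total (S.map (HomologicalComplex₂.flipFunctor D up up)) fun p q => h q p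

lemma acyclic_rowsTotal_single (R : CochainComplex D ℤ) (hR : R.Acyclic) (k : ℤ) :
    (rowsTotal.obj ((single (CochainComplex D ℤ) up k).obj R)).Acyclic := by
  refine acyclic_total_of_row _ k (fun p q hq => ?_) ?_
  · exact (eval D up p).map_isZero (isZero_single_obj_X up k R q hq)
  · let e : R ≅ ((single (CochainComplex D ℤ) up k).obj R).X k := (singleObjXSelf up k R).symm
    exact fun i => (hR i).of_iso e

lemma acyclic_rowsTotal (E : CochainComplex (CochainComplex D ℤ) ℤ) (b : ℤ)
    (h0 : ∀ q, b < q → IsZero (E.X q)) (hac : ∀ q, (E.X q).Acyclic) :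
    (rowsTotal.obj E).Acyclic := by
  have hge : ∀ n : ℕ, (rowsTotal.obj (ge E (b + 1 - n))).Acyclic := by
    intro n
    induction n with
    | zero =>
      refine acyclic_of_isZero _ (Functor.map_isZero _ ?_)
      rw [IsZero.iff_id_eq_zero]
      refine HomologicalComplex.hom_ext _ _ fun q => ?_
      rcases le_or_gt (b + 1) q with h | h
      · have := isIso_geι E (k := b + 1 - (0 : ℕ)) (q := q) (by lia)
        exact ((h0 q (by lia)).of_iso (asIso (geι E (b + 1 - (0 : ℕ)) q))).eq_of_src _ _
      · exact (isZero_geX E (k := b + 1 - (0 : ℕ)) (q := q) (by lia)).eq_of_src _ _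
    | succ n ih =>
      have hS : ((geSC E (b - n)).map rowsTotal).ShortExact :=
        shortExact_rowsTotal _ fun q p =>
          ((geSplitting E (b - n) q).map (eval D up p)).shortExact
      have h₁ : (rowsTotal.obj (ge E (b - n + 1))).Acyclic := by
        rwa [show b - (n : ℤ) + 1 = b + 1 - n by lia]
      rw [show b + 1 - ((n + 1 : ℕ) : ℤ) = b - n by lia]
      exact acyclic₂ hS h₁ (acyclic_rowsTotal_single _ (hac _) _)
  have hc : IsColimit (rowsTotal.mapCocone (geCocone E b)) :=
    isColimitTotal ((HomologicalComplex₂.flipFunctor D up up).mapCocone (geCocone E b))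
      fun p q => isColimitGe E b q (eval D up p)
  intro i
  exact (acyclic_colimit ℕ (geSeq E b ⋙ rowsTotal) hge i).of_iso
    ((colimit.isColimit _).coconePointUniqueUpToIso hc)

lemma acyclic_total_of_rows (K : HomologicalComplex₂ D up up) (b : ℤ)
    (h0 : ∀ p q, b < q → IsZero ((K.X p).X q)) (hac : ∀ q, (K.flip.X q).Acyclic) :
    (K.total up).Acyclic := by
  refine acyclic_rowsTotal K.flip b (fun q hq => ?_) hac
  rw [IsZero.iff_id_eq_zero]
  exact HomologicalComplex.hom_ext _ _ fun p => (h0 p q hq).eq_of_src _ _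

end total

end Groth.DerivedCoh.KFlat
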