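import Groth.Agent.DerivedCoh.KFlat.Push
import Groth.Agent.DerivedCoh.KFlat.LpullComp
import Groth.Agent.SiteCohomology.SchemeModules
import Groth.Prelude.Def_DCoh2

/-!
`Rf_*` computed by functorial K-injective resolutions; composition of derived direct images.
-/

universe u

open CategoryTheory CategoryTheory.Limits AlgebraicGeometry HomologicalComplex

namespace Groth.DerivedCoh.KFlat

attribute [local instance] HasDerivedCategory.standard

variable {X Y Z : Scheme.{u}}

local notation "up" => ComplexShape.up ℤ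

/-- functorial K-injective resolutions of complexes of modules on a scheme -/
noncomputable def kres (X : Scheme.{u}) : CochainComplex X.Modules ℤ ⥤ CochainComplex X.Modules ℤ :=
  (KInjRes.exists_functorial (A := X.Modules)).choose

/-- the augmentation of the functorial K-injective resolution -/
noncomputable def kresAug (X : Scheme.{u}) : 𝟭 _ ⟶ kres X :=
  (KInjRes.exists_functorial (A := X.Modules)).choose_spec.choose

lemma kresAug_spec {X : Scheme.{u}} (M : CochainComplex X.Modules ℤ) :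
    Mono ((kresAug X).app M) ∧ QuasiIso ((kresAug X).app M) ∧ ((kres X).obj M).IsKInjective ∧
      ∀ n, Injective (((kres X).obj M).X n) :=
  (KInjRes.exists_functorial (A := X.Modules)).choose_spec.choose_spec M

instance {X : Scheme.{u}} (M : CochainComplex X.Modules ℤ) : ((kres X).obj M).IsKInjective :=
  (kresAug_spec M).2.2.1

instance {X : Scheme.{u}} (M : CochainComplex X.Modules ℤ) : QuasiIso ((kresAug X).app M) :=
  (kresAug_spec M).2.1

lemma enoughKInj (X : Scheme.{u}) : DerivedAdj.EnoughKInj X.Modules := fun K =>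
  ⟨(kres X).obj K, (kresAug X).app K, inferInstance, inferInstance⟩

/-- the unit of `Rf_*` is invertible at K-injective complexes -/
lemma isIso_pushUnit_app (f : X ⟶ Y) [DCoh.HasRpush f] (J : CochainComplex X.Modules ℤ)
    [J.IsKInjective] :
    IsIso (((DCoh.pushKh f).totalRightDerivedUnit DerivedCategory.Qh
      (HomotopyCategory.quasiIso X.Modules up)).app ((HomotopyCategory.quotient X.Modules up).obj J)) :=
  DerivedAdj.isIso_app_of_bijective (HomotopyCategory.quasiIso X.Modules up) _ _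
    (DerivedAdj.exists_good (enoughKInj X)) _ fun K =>
      CochainComplex.IsKInjective.Qh_map_bijective K J

/-- `Rf_*` is computed by K-injective resolutions -/
noncomputable def RpushResIso (f : X ⟶ Y) [DCoh.HasRpush f] :
    L₀ X ⋙ DCoh.Rpush f ≅ kres X ⋙ pushCx f ⋙ L₀ Y :=
  let a : L₀ X ⋙ DCoh.Rpush f ⟶ kres X ⋙ L₀ X ⋙ DCoh.Rpush f :=
    Functor.whiskerRight (kresAug X) (L₀ X ⋙ DCoh.Rpush f)
  let b : kres X ⋙ pushCx f ⋙ L₀ Y ⟶ kres X ⋙ L₀ X ⋙ DCoh.Rpush f :=
    Functor.whiskerLeft (kres X ⋙ HomotopyCategory.quotient X.Modules up)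
      ((DCoh.pushKh f).totalRightDerivedUnit DerivedCategory.Qh (HomotopyCategory.quasiIso X.Modules up))
  have : ∀ K, IsIso (a.app K) := fun K => by
    have := isIso_L₀_map ((kresAug X).app K)
    exact inferInstanceAs (IsIso ((DCoh.Rpush f).map ((L₀ X).map _)))
  have : ∀ K, IsIso (b.app K) := fun K => isIso_pushUnit_app f ((kres X).obj K)
  have := NatIso.isIso_of_isIso_app a
  have := NatIso.isIso_of_isIso_app b
  asIso a ≪≫ (asIso b).symm

/-- direct images of complexes compose -/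
noncomputable def pushCxComp (f : X ⟶ Y) (g : Y ⟶ Z) :
    pushCx f ⋙ pushCx g ≅ pushCx (f ≫ g) :=
  NatIso.mapHomologicalComplex (Scheme.Modules.pushforwardComp f g) up

/-- resolving again is not needed after a direct image of a K-injective complex -/
noncomputable def resPushIso (f : X ⟶ Y) (g : Y ⟶ Z) :
    kres X ⋙ pushCx f ⋙ pushCx g ⋙ L₀ Z ≅ kres X ⋙ pushCx f ⋙ kres Y ⋙ pushCx g ⋙ L₀ Z :=
  let c := Functor.whiskerLeft (kres X ⋙ pushCx f)
      (Functor.whiskerRight (kresAug Y) (pushCx g ⋙ L₀ Z))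
  have h : ∀ K, IsIso (c.app K) := fun K => by
    have := quasiIso_pushCx g ((kresAug Y).app ((pushCx f).obj ((kres X).obj K)))
      (weakKInj_pushCx f _) (weakKInj_of_isKInjective _)
    exact isIso_L₀_map ((pushCx g).map ((kresAug Y).app ((pushCx f).obj ((kres X).obj K))))
  have := NatIso.isIso_of_isIso_app c
  asIso c

/-- `Rg_* ∘ Rf_* = R(g f)_*` -/
theorem Rpush_comp_iso (f : X ⟶ Y) (g : Y ⟶ Z)
    [DCoh.HasRpush f] [DCoh.HasRpush g] [DCoh.HasRpush (f ≫ g)] :
    Nonempty (DCoh.Rpush f ⋙ DCoh.Rpush g ≅ DCoh.Rpush (f ≫ g)) := by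
  let e : L₀ X ⋙ DCoh.Rpush f ⋙ DCoh.Rpush g ≅ L₀ X ⋙ DCoh.Rpush (f ≫ g) :=
    (Functor.associator (L₀ X) (DCoh.Rpush f) (DCoh.Rpush g)).symm ≪≫
    Functor.isoWhiskerRight (RpushResIso f) (DCoh.Rpush g) ≪≫
    Functor.isoWhiskerLeft (kres X ⋙ pushCx f) (RpushResIso g) ≪≫
    (resPushIso f g).symm ≪≫
    Functor.isoWhiskerLeft (kres X) (Functor.isoWhiskerRight (pushCxComp f g) (L₀ Z)) ≪≫
    (RpushResIso (f ≫ g)).symm
  exact ⟨Localization.liftNatIso (L₀ X) (HomologicalComplex.quasiIso X.Modules up)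
    (L₀ X ⋙ DCoh.Rpush f ⋙ DCoh.Rpush g) (L₀ X ⋙ DCoh.Rpush (f ≫ g)) _ _ e⟩

end Groth.DerivedCoh.KFlat
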