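import Groth.Agent.DerivedCoh.KFlat.LpullComp
import Groth.Prelude.Def_DDual2
import Mathlib.CategoryTheory.Monoidal.Braided.Basic

/-!
`- ⊗^L F` for a module `F`: existence, computation by K-flat complexes.
-/

universe u

open CategoryTheory CategoryTheory.Limits AlgebraicGeometry MonoidalCategory HomologicalComplex

namespace Groth.DerivedCoh.KFlat

attribute [local instance] HasDerivedCategory.standard

variable {X : Scheme.{u}}

local notation "up" => ComplexShape.up ℤ

/-- `- ⊗ F` on complexes -/
noncomputable abbrev tmCx (F : X.Modules) :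
    CochainComplex X.Modules ℤ ⥤ CochainComplex X.Modules ℤ :=
  (DCoh.tensorRightMod F).mapHomologicalComplex up

/-- `- ⊗ F` on stalks -/
noncomputable def tmStkIso (F : X.Modules) (x : X) :
    DCoh.tensorRightMod F ⋙ stk x ≅ stk x ⋙ tensorLeft ((stk x).obj F) :=
  (show DCoh.tensorRightMod F ⋙ stk x ≅ stk x ⋙ tensorRight ((stk x).obj F) from
      tensorFlipStkIso F x) ≪≫
    Functor.isoWhiskerLeft (stk x) (BraidedCategory.tensorLeftIsoTensorRight _).symm

lemma acyclic_tmCx (F : X.Modules) (C : CochainComplex X.Modules ℤ) (hC : IsKFlat (T X) C)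
    (hac : C.Acyclic) : ((tmCx F).obj C).Acyclic := by
  intro i
  rw [exactAt_iff, (stk_jointly (X := X)).exact_iff]
  intro x
  exact (acyclic_stalk_tensor C hC hac x _ i).of_iso
    ((NatIso.mapHomologicalComplex (tmStkIso F x) up).app C).symm

lemma quasiIso_tmCx (F : X.Modules) {E E' : CochainComplex X.Modules ℤ} (hE : IsKFlat (T X) E)
    (hE' : IsKFlat (T X) E') (α : E ⟶ E') [QuasiIso α] : QuasiIso ((tmCx F).map α) := by
  have h := acyclic_tmCx F _ (hE.mappingCone (T X) α hE') (acyclic_mappingCone_of_quasiIso α)
  let e := CochainComplex.mappingCone.mapHomologicalComplexIso α (DCoh.tensorRightMod F)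
  have h' : (CochainComplex.mappingCone ((tmCx F).map α)).Acyclic := fun i => (h i).of_iso e
  rw [← HomologicalComplex.mem_quasiIso_iff, ← HomotopyCategory.quotient_map_mem_quasiIso_iff,
    HomotopyCategory.quasiIso_eq_trW_subcategoryAcyclic]
  exact ((HomotopyCategory.subcategoryAcyclic X.Modules).trW_iff_of_distinguished
    (CochainComplex.mappingCone.triangleh ((tmCx F).map α))
    (HomotopyCategory.mappingCone_triangleh_distinguished _)).2
      ((HomotopyCategory.quotient_obj_mem_subcategoryAcyclic_iff_acyclic _).2 h')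

lemma isIso_tensorModKh_map (F : X.Modules) {E E' : CochainComplex X.Modules ℤ}
    (hE : IsKFlat (T X) E) (hE' : IsKFlat (T X) E') (α : E ⟶ E') [QuasiIso α] :
    IsIso ((HomotopyCategory.quotient X.Modules up ⋙ DCoh.tensorModKh F).map α) := by
  have := quasiIso_tmCx F hE hE' α
  exact isIso_L₀_map ((tmCx F).map α)

lemma exists_derived_tm (F : X.Modules) :
    ∃ (LF : DCoh.D X ⥤ DCoh.D X) (α : DerivedCategory.Qh ⋙ LF ⟶ DCoh.tensorModKh F),
      LF.IsRightKanExtension α ∧ ∀ K : CochainComplex X.Modules ℤ, IsKFlat (T X) K →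
        IsIso (α.app ((HomotopyCategory.quotient X.Modules up).obj K)) := by
  let q := HomotopyCategory.quotient X.Modules up
  obtain ⟨LF, α, hα, hiso⟩ := exists_isRightKanExtension_of_resolution
    (q ⋙ DerivedCategory.Qh) (HomologicalComplex.quasiIso X.Modules up) (q ⋙ DCoh.tensorModKh F)
    (flatResolution X) (flatResolutionAug X)
    (fun K => (HomologicalComplex.mem_quasiIso_iff _).2 (flatResolution_quasiIso K))
    (fun K L w hw => by
      have : QuasiIso w := (HomologicalComplex.mem_quasiIso_iff w).1 hw
      have := flatResolution_quasiIso K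
      have := flatResolution_quasiIso L
      have e := (flatResolutionAug X).naturality w
      have : QuasiIso ((flatResolution X).map w ≫ (flatResolutionAug X).app L) := by
        rw [e]
        change QuasiIso ((flatResolutionAug X).app K ≫ w)
        infer_instance
      have : QuasiIso ((flatResolution X).map w) :=
        quasiIso_of_comp_right _ ((flatResolutionAug X).app L)
      exact isIso_tensorModKh_map F (flatResolution_isKFlat K) (flatResolution_isKFlat L) _)
    (fun K => by
      have := flatResolution_quasiIso ((flatResolution X).obj K)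
      exact isIso_tensorModKh_map F (flatResolution_isKFlat _) (flatResolution_isKFlat K) _)
  obtain ⟨α', hα', happ⟩ :=
    exists_isRightKanExtension_of_precomp q DerivedCategory.Qh (DCoh.tensorModKh F) α hα
  refine ⟨LF, α', hα', fun K hK => ?_⟩
  rw [happ]
  refine hiso K ?_
  have := flatResolution_quasiIso K
  exact isIso_tensorModKh_map F (flatResolution_isKFlat K) hK _

theorem hasLTensorMod (F : X.Modules) : DCoh.HasLTensorMod F := by
  obtain ⟨LF, α, hα, -⟩ := exists_derived_tm F
  exact (Functor.hasLeftDerivedFunctor_iff (DCoh.tensorModKh F) DerivedCategory.Qh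
    (HomotopyCategory.quasiIso X.Modules up)).2 (Functor.HasRightKanExtension.mk LF α)

/-- the counit of `- ⊗^L F` -/
noncomputable abbrev tmCounit (F : X.Modules) [DCoh.HasLTensorMod F] :
    DerivedCategory.Qh ⋙ DCoh.LTensorMod F ⟶ DCoh.tensorModKh F :=
  (DCoh.tensorModKh F).totalLeftDerivedCounit DerivedCategory.Qh
    (HomotopyCategory.quasiIso X.Modules up)

/-- `- ⊗^L F` is computed by K-flat complexes -/
theorem isIso_tmCounit_app (F : X.Modules) [DCoh.HasLTensorMod F] (K : CochainComplex X.Modules ℤ)
    (hK : IsKFlat (T X) K) :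
    IsIso ((tmCounit F).app ((HomotopyCategory.quotient X.Modules up).obj K)) := by
  obtain ⟨LF, α, hα, hiso⟩ := exists_derived_tm F
  have hc : (DCoh.LTensorMod F).IsRightKanExtension (tmCounit F) :=
    Functor.IsLeftDerivedFunctor.isRightKanExtension (W := HomotopyCategory.quasiIso X.Modules up) _ _
  let e := (DCoh.LTensorMod F).rightKanExtensionUnique (tmCounit F) LF α
  have he : ∀ Z, e.hom.app (DerivedCategory.Qh.obj Z) ≫ α.app Z = (tmCounit F).app Z := fun Z =>
    (LF.liftOfIsRightKanExtension_fac_app α (DCoh.LTensorMod F) (tmCounit F ≫ 𝟙 _) Z).trans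
      (by simp)
  rw [← he]
  have := hiso K hK
  infer_instance

/-- the value of `- ⊗^L F` at a K-flat complex -/
noncomputable def ltmIso (F : X.Modules) [DCoh.HasLTensorMod F] (E : CochainComplex X.Modules ℤ)
    (hE : IsKFlat (T X) E) :
    (DCoh.LTensorMod F).obj ((L₀ X).obj E) ≅ (L₀ X).obj ((tmCx F).obj E) :=
  @asIso _ _ _ _ ((tmCounit F).app ((HomotopyCategory.quotient X.Modules up).obj E))
    (isIso_tmCounit_app F E hE)

end Groth.DerivedCoh.KFlat
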