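import Groth.Agent.DerivedCoh.KFlat.PullbackKFlat
import Groth.Agent.DerivedCoh.Derived
import Groth.Prelude.Def_DDual2

/-!
Existence of the left derived inverse image.
-/

universe u

open CategoryTheory CategoryTheory.Limits AlgebraicGeometry HomologicalComplex

namespace Groth.DerivedCoh.KFlat

attribute [local instance] HasDerivedCategory.standard

variable {X Y : Scheme.{u}}

local notation "up" => ComplexShape.up ℤ

lemma quasiIso_pullCx (f : X ⟶ Y) {E E' : CochainComplex Y.Modules ℤ} (hE : IsKFlat (T Y) E)
    (hE' : IsKFlat (T Y) E') (α : E ⟶ E') [QuasiIso α] : QuasiIso ((pullCx f).map α) := by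
  have h := acyclic_pullCx f _ (hE.mappingCone (T Y) α hE') (acyclic_mappingCone_of_quasiIso α)
  let e := CochainComplex.mappingCone.mapHomologicalComplexIso α (Scheme.Modules.pullback f)
  have h' : (CochainComplex.mappingCone ((pullCx f).map α)).Acyclic := fun i => (h i).of_iso e
  rw [← HomologicalComplex.mem_quasiIso_iff, ← HomotopyCategory.quotient_map_mem_quasiIso_iff,
    HomotopyCategory.quasiIso_eq_trW_subcategoryAcyclic]
  exact ((HomotopyCategory.subcategoryAcyclic X.Modules).trW_iff_of_distinguished
    (CochainComplex.mappingCone.triangleh ((pullCx f).map α))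
    (HomotopyCategory.mappingCone_triangleh_distinguished _)).2
      ((HomotopyCategory.quotient_obj_mem_subcategoryAcyclic_iff_acyclic _).2 h')

lemma isIso_pullKh_map (f : X ⟶ Y) {E E' : CochainComplex Y.Modules ℤ} (hE : IsKFlat (T Y) E)
    (hE' : IsKFlat (T Y) E') (α : E ⟶ E') [QuasiIso α] :
    IsIso ((HomotopyCategory.quotient Y.Modules up ⋙ DCoh.pullKh f).map α) := by
  have := quasiIso_pullCx f hE hE' α
  have h : IsIso ((HomotopyCategory.quotient X.Modules up ⋙ DerivedCategory.Qh).map ((pullCx f).map α)) :=
    (NatIso.isIso_map_iff (DerivedCategory.quotientCompQhIso X.Modules) _).2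
      ((DerivedCategory.isIso_Q_map_iff_quasiIso X.Modules _).2 this)
  exact h

instance isLocalization_qQh (A : Type*) [Category A] [Abelian A] [HasDerivedCategory A] :
    (HomotopyCategory.quotient A up ⋙ DerivedCategory.Qh).IsLocalization
      (HomologicalComplex.quasiIso A up) :=
  Functor.IsLocalization.of_iso _ (DerivedCategory.quotientCompQhIso A).symm

lemma exists_derived_pull (f : X ⟶ Y) :
    ∃ (LF : DCoh.D Y ⥤ DCoh.D X) (α : DerivedCategory.Qh ⋙ LF ⟶ DCoh.pullKh f),
      LF.IsRightKanExtension α ∧ ∀ K : CochainComplex Y.Modules ℤ, IsKFlat (T Y) K →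
        IsIso (α.app ((HomotopyCategory.quotient Y.Modules up).obj K)) := by
  let q := HomotopyCategory.quotient Y.Modules up
  obtain ⟨LF, α, hα, hiso⟩ := exists_isRightKanExtension_of_resolution
    (q ⋙ DerivedCategory.Qh) (HomologicalComplex.quasiIso Y.Modules up) (q ⋙ DCoh.pullKh f)
    (flatResolution Y) (flatResolutionAug Y)
    (fun K => (HomologicalComplex.mem_quasiIso_iff _).2 (flatResolution_quasiIso K))
    (fun K L w hw => by
      have : QuasiIso w := (HomologicalComplex.mem_quasiIso_iff w).1 hw
      have := flatResolution_quasiIso K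
      have := flatResolution_quasiIso L
      have e := (flatResolutionAug Y).naturality w
      have : QuasiIso ((flatResolution Y).map w ≫ (flatResolutionAug Y).app L) := by
        rw [e]
        change QuasiIso ((flatResolutionAug Y).app K ≫ w)
        infer_instance
      have : QuasiIso ((flatResolution Y).map w) :=
        quasiIso_of_comp_right _ ((flatResolutionAug Y).app L)
      exact isIso_pullKh_map f (flatResolution_isKFlat K) (flatResolution_isKFlat L) _)
    (fun K => by
      have := flatResolution_quasiIso ((flatResolution Y).obj K)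
      exact isIso_pullKh_map f (flatResolution_isKFlat _) (flatResolution_isKFlat K) _)
  obtain ⟨α', hα', happ⟩ :=
    exists_isRightKanExtension_of_precomp q DerivedCategory.Qh (DCoh.pullKh f) α hα
  refine ⟨LF, α', hα', fun K hK => ?_⟩
  rw [happ]
  refine hiso K ?_
  have := flatResolution_quasiIso K
  exact isIso_pullKh_map f (flatResolution_isKFlat K) hK _

theorem hasLpull (f : X ⟶ Y) : DCoh.HasLpull f := by
  obtain ⟨LF, α, hα, -⟩ := exists_derived_pull f
  exact (Functor.hasLeftDerivedFunctor_iff (DCoh.pullKh f) DerivedCategory.Qh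
    (HomotopyCategory.quasiIso Y.Modules up)).2 (Functor.HasRightKanExtension.mk LF α)

/-- the counit of `Lf^*` -/
noncomputable abbrev pullCounit (f : X ⟶ Y) [DCoh.HasLpull f] :
    DerivedCategory.Qh ⋙ DCoh.Lpull f ⟶ DCoh.pullKh f :=
  (DCoh.pullKh f).totalLeftDerivedCounit DerivedCategory.Qh
    (HomotopyCategory.quasiIso Y.Modules up)

/-- `Lf^*` is computed by K-flat complexes -/
theorem isIso_pullCounit_app (f : X ⟶ Y) [DCoh.HasLpull f] (K : CochainComplex Y.Modules ℤ)
    (hK : IsKFlat (T Y) K) :
    IsIso ((pullCounit f).app ((HomotopyCategory.quotient Y.Modules up).obj K)) := by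
  obtain ⟨LF, α, hα, hiso⟩ := exists_derived_pull f
  have hc : (DCoh.Lpull f).IsRightKanExtension (pullCounit f) :=
    Functor.IsLeftDerivedFunctor.isRightKanExtension (W := HomotopyCategory.quasiIso Y.Modules up) _ _
  let e := (DCoh.Lpull f).rightKanExtensionUnique (pullCounit f) LF α
  have he : ∀ Z, e.hom.app (DerivedCategory.Qh.obj Z) ≫ α.app Z = (pullCounit f).app Z := fun Z =>
    (LF.liftOfIsRightKanExtension_fac_app α (DCoh.Lpull f) (pullCounit f ≫ 𝟙 _) Z).trans
      (by simp)
  rw [← he]
  have := hiso K hK
  infer_instance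

end Groth.DerivedCoh.KFlat
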