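import Groth.Agent.DerivedCoh.KFlat.PullbackKFlat
import Groth.Agent.DerivedCoh.KInj.Resolution
import Groth.Agent.DerivedAdj.Basic
import Mathlib.Algebra.Homology.HomotopyCategory.KInjective

/-!
Complexes which are weakly K-injective (right orthogonal to acyclic K-flat complexes); direct images.
-/

universe u

open CategoryTheory CategoryTheory.Limits AlgebraicGeometry HomologicalComplex Pretriangulated

namespace Groth.DerivedCoh.KFlat

attribute [local instance] HasDerivedCategory.standard

variable {X Y : Scheme.{u}}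

local notation "up" => ComplexShape.up ℤ

/-- right orthogonal to acyclic K-flat complexes -/
def WeakKInj (J : CochainComplex Y.Modules ℤ) : Prop :=
  ∀ R : CochainComplex Y.Modules ℤ, IsKFlat (T Y) R → R.Acyclic →
    ∀ φ : (HomotopyCategory.quotient Y.Modules up).obj R ⟶ (HomotopyCategory.quotient Y.Modules up).obj J,
      φ = 0

/-- the direct image of complexes -/
noncomputable abbrev pushCx (f : X ⟶ Y) :
    CochainComplex X.Modules ℤ ⥤ CochainComplex Y.Modules ℤ :=
  (Scheme.Modules.pushforward f).mapHomologicalComplex up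

lemma weakKInj_of_isKInjective (J : CochainComplex Y.Modules ℤ) [J.IsKInjective] : WeakKInj J := by
  intro R _ hR φ
  obtain ⟨φ, rfl⟩ := (HomotopyCategory.quotient Y.Modules up).map_surjective φ
  rw [HomotopyCategory.eq_of_homotopy φ 0 (CochainComplex.IsKInjective.homotopyZero φ hR),
    Functor.map_zero]

lemma weakKInj_pushCx (f : X ⟶ Y) (J : CochainComplex X.Modules ℤ) [J.IsKInjective] :
    WeakKInj ((pushCx f).obj J) := by
  intro R hR hac φ
  let adj := Groth.DerivedAdj.mapHomotopyCategoryAdj (Scheme.Modules.pullbackPushforwardAdjunction f) up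
  let φ' : (HomotopyCategory.quotient Y.Modules up).obj R ⟶
      ((Scheme.Modules.pushforward f).mapHomotopyCategory up).obj
        ((HomotopyCategory.quotient X.Modules up).obj J) := φ
  have hz : (adj.homEquiv _ _).symm φ' = 0 := by
    obtain ⟨ψ, hψ⟩ := (HomotopyCategory.quotient X.Modules up).map_surjective
      (X := (pullCx f).obj R) (Y := J) ((adj.homEquiv _ _).symm φ')
    exact hψ.symm.trans ((congrArg _ rfl).trans
      ((HomotopyCategory.eq_of_homotopy ψ 0 (CochainComplex.IsKInjective.homotopyZero ψ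
        (acyclic_pullCx f R hR hac))).trans (Functor.map_zero _ _ _)))
  have : φ' = 0 := by
    rw [← (adj.homEquiv _ _).apply_symm_apply φ', hz, adj.homEquiv_unit]
    simp
  exact this

lemma WeakKInj.of_iso {J J' : CochainComplex Y.Modules ℤ} (h : WeakKInj J) (e : J ≅ J') :
    WeakKInj J' := fun R hR hac φ => by
  rw [← cancel_mono ((HomotopyCategory.quotient Y.Modules up).map e.inv), zero_comp]
  exact h R hR hac _

lemma WeakKInj.shift {J : CochainComplex Y.Modules ℤ} (h : WeakKInj J) (n : ℤ) :
    WeakKInj (J⟦n⟧) := by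
  intro R hR hac φ
  obtain ⟨φ, rfl⟩ := (HomotopyCategory.quotient Y.Modules up).map_surjective φ
  let e : (J⟦n⟧)⟦-n⟧ ≅ J :=
    (shiftEquiv' (CochainComplex Y.Modules ℤ) n (-n) (add_neg_cancel n)).unitIso.symm.app J
  let ψ : R⟦-n⟧ ⟶ J := φ⟦-n⟧' ≫ e.hom
  have h0 := h (R⟦-n⟧) (hR.shift (T Y) (-n)) (acyclic_shift hac (-n))
    ((HomotopyCategory.quotient Y.Modules up).map ψ)
  rw [Functor.map_comp, ← cancel_mono ((HomotopyCategory.quotient Y.Modules up).map e.inv),
    zero_comp, Category.assoc, ← Functor.map_comp, e.hom_inv_id, CategoryTheory.Functor.map_id,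
    Category.comp_id] at h0
  refine (shiftFunctor (HomotopyCategory Y.Modules up) (-n)).map_injective ?_
  rw [Functor.map_zero, ← cancel_epi (((HomotopyCategory.quotient Y.Modules up).commShiftIso (-n)).hom.app R),
    comp_zero]
  erw [← ((HomotopyCategory.quotient Y.Modules up).commShiftIso (-n)).hom.naturality φ]
  change (HomotopyCategory.quotient Y.Modules up).map (φ⟦-n⟧') ≫ _ = 0
  rw [h0, zero_comp]

lemma WeakKInj.mappingCone {J J' : CochainComplex Y.Modules ℤ} (u : J ⟶ J') (h : WeakKInj J)
    (h' : WeakKInj J') : WeakKInj (CochainComplex.mappingCone u) := by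
  intro R hR hac φ
  have hsh : φ ≫ (CochainComplex.mappingCone.triangleh u).mor₃ = 0 := by
    let e : (HomotopyCategory.quotient Y.Modules up).obj (J⟦(1 : ℤ)⟧) ≅
        ((HomotopyCategory.quotient Y.Modules up).obj J)⟦(1 : ℤ)⟧ :=
      ((HomotopyCategory.quotient Y.Modules up).commShiftIso (1 : ℤ)).app J
    let ψ : (HomotopyCategory.quotient Y.Modules up).obj R ⟶
        ((HomotopyCategory.quotient Y.Modules up).obj J)⟦(1 : ℤ)⟧ :=
      φ ≫ (CochainComplex.mappingCone.triangleh u).mor₃
    have h1 : ψ ≫ e.inv = 0 := h.shift 1 R hR hac _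
    calc φ ≫ (CochainComplex.mappingCone.triangleh u).mor₃ = (ψ ≫ e.inv) ≫ e.hom := by
          rw [Category.assoc, e.inv_hom_id, Category.comp_id]; rfl
      _ = 0 := by rw [h1, zero_comp]
  obtain ⟨g, hg⟩ := Triangle.coyoneda_exact₃ _
    (HomotopyCategory.mappingCone_triangleh_distinguished u) φ hsh
  rw [hg, h' R hR hac g]
  exact zero_comp

/-- every morphism from a K-flat complex to an acyclic weakly K-injective complex is null homotopic -/
lemma WeakKInj.homotopic_zero {C : CochainComplex Y.Modules ℤ} (hC : WeakKInj C) (hac : C.Acyclic)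
    {P : CochainComplex Y.Modules ℤ} (hP : IsKFlat (T Y) P) (φ : P ⟶ C) :
    Nonempty (Homotopy φ 0) := by
  obtain ⟨N, b, c, hN, hc, e, -⟩ := exists_kFlat_factor φ hP
  have hNac : N.Acyclic := fun i =>
    ((quasiIsoAt_iff_exactAt' c i (hac i)).1 inferInstance)
  refine ⟨HomotopyCategory.homotopyOfEq _ _ ?_⟩
  rw [← e, Functor.map_comp, hC N hN hNac ((HomotopyCategory.quotient Y.Modules up).map c), comp_zero,
    Functor.map_zero]

/-- sections of an acyclic weakly K-injective complex are exact -/
lemma WeakKInj.exact_sections {C : CochainComplex Y.Modules ℤ} (hC : WeakKInj C) (hac : C.Acyclic)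
    (W : Y.Opens) (i : ℤ) (s : Γ(C.X i, W)) (hs : (C.d i (i + 1)).app W s = 0) :
    ∃ w : Γ(C.X (i - 1), W), (C.d (i - 1) i).app W w = s := by
  have hP : IsKFlat (T Y) ((single Y.Modules up i).obj (Groth.CohTwo.belowO Y W)) := by
    refine isKFlat_of_flat (T Y) _ i (fun q hq => isZero_single_obj_X up i _ q (by lia)) fun q => ?_
    by_cases hq : q = i
    · subst hq
      exact (flat_of_isFlat (Groth.CohTwo.isFlat_below_structureModule W)).of_iso
        (singleObjXSelf up q _).symm
    · exact flat_of_isZero _ (isZero_single_obj_X up i _ q hq)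
  let φ : (single Y.Modules up i).obj (Groth.CohTwo.belowO Y W) ⟶ C :=
    mkHomFromSingle (secHom (C.X i) s) fun j hj => by
      simp only [ComplexShape.up_Rel] at hj
      subst hj
      rw [secHom_comp, hs, secHom_zero]
  obtain ⟨h⟩ := hC.homotopic_zero hac hP φ
  have e := h.comm i
  rw [dNext_eq _ (show (up).Rel i (i + 1) by simp), prevD_eq _ (show (up).Rel (i - 1) i by simp),
    zero_f, add_zero, (isZero_single_obj_X up i _ (i + 1) (by lia)).eq_of_src (h.hom (i + 1) i) 0,
    comp_zero, zero_add, mkHomFromSingle_f] at e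
  have e' : secHom (C.X i) s =
      ((singleObjXSelf up i _).inv ≫ h.hom i (i - 1)) ≫ C.d (i - 1) i := by
    rw [Category.assoc, ← e, Iso.inv_hom_id_assoc]
  refine ⟨((singleObjXSelf up i _).inv ≫ h.hom i (i - 1)).app W (Groth.CohTwo.oneSec le_rfl), ?_⟩
  conv_rhs => rw [← secHom_app_one (C.X i) s, e', Scheme.Modules.Hom.comp_app]
  rfl

/-- the direct image of an acyclic weakly K-injective complex is acyclic -/
lemma WeakKInj.acyclic_pushCx {C : CochainComplex Y.Modules ℤ} (hC : WeakKInj C) (hac : C.Acyclic)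
    {Z : Scheme.{u}} (g : Y ⟶ Z) : ((pushCx g).obj C).Acyclic := by
  intro i
  rw [exactAt_iff' _ (i - 1) i (i + 1) (by simp) (by simp), Groth.QCohMod.exact_iff_stalk]
  intro z
  rw [ShortComplex.ab_exact_iff]
  intro t ht
  obtain ⟨U, hU, s, rfl⟩ := Groth.QCohMod.exists_germ _ z t
  have ht' : Groth.QCohMod.germ (((pushCx g).obj C).X (i + 1)) z hU
      ((((pushCx g).obj C).d i (i + 1)).app U s) =
      Groth.QCohMod.germ (((pushCx g).obj C).X (i + 1)) z hU 0 := by
    refine Eq.trans ?_ (map_zero _).symm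
    refine Eq.trans ?_ ht
    exact (TopCat.Presheaf.stalkFunctor_map_germ_apply U z hU
      (((pushCx g).obj C).d i (i + 1)).mapPresheaf s).symm
  obtain ⟨V, hV, h₁, h₂, e⟩ := Groth.QCohMod.exists_res_eq_of_germ_eq z hU hU _ _ ht'
  have e : (((pushCx g).obj C).d i (i + 1)).app V (Groth.QCohMod.res _ h₁ s) = 0 :=
    (Groth.QCohMod.res_app _ h₁ s).symm.trans (e.trans (map_zero _))
  obtain ⟨w, hw⟩ := hC.exact_sections hac (g ⁻¹ᵁ V) i
    (Groth.QCohMod.res (((pushCx g).obj C).X i) h₁ s) e
  refine ⟨Groth.QCohMod.germ (((pushCx g).obj C).X (i - 1)) z hV w, ?_⟩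
  refine (TopCat.Presheaf.stalkFunctor_map_germ_apply V z hV
    (((pushCx g).obj C).d (i - 1) i).mapPresheaf w).trans ?_
  refine Eq.trans ?_ (Groth.QCohMod.germ_res _ h₁ z hV s)
  exact congrArg _ hw

/-- direct images preserve quasi-isomorphisms between weakly K-injective complexes -/
theorem quasiIso_pushCx (g : X ⟶ Y) {J J' : CochainComplex X.Modules ℤ} (u : J ⟶ J') (h : WeakKInj J)
    (h' : WeakKInj J') [QuasiIso u] : QuasiIso ((pushCx g).map u) := by
  have h0 := (h.mappingCone u h').acyclic_pushCx (acyclic_mappingCone_of_quasiIso u) g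
  let e := CochainComplex.mappingCone.mapHomologicalComplexIso u (Scheme.Modules.pushforward g)
  have h1 : (CochainComplex.mappingCone ((pushCx g).map u)).Acyclic := fun i => (h0 i).of_iso e
  rw [← HomologicalComplex.mem_quasiIso_iff, ← HomotopyCategory.quotient_map_mem_quasiIso_iff,
    HomotopyCategory.quasiIso_eq_trW_subcategoryAcyclic]
  exact ((HomotopyCategory.subcategoryAcyclic Y.Modules).trW_iff_of_distinguished
    (CochainComplex.mappingCone.triangleh ((pushCx g).map u))
    (HomotopyCategory.mappingCone_triangleh_distinguished _)).2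
      ((HomotopyCategory.quotient_obj_mem_subcategoryAcyclic_iff_acyclic _).2 h1)

end Groth.DerivedCoh.KFlat
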