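import Groth.Agent.DerivedCoh.KFlat.Scheme
import Groth.Agent.DerivedCoh.KFlat.Unbounded
import Groth.Agent.CohTwo.ColimStalk
import Groth.Agent.CohTwo.TensorBelow

/-!
Functorial K-flat resolutions with flat terms on a scheme.
-/

universe u

open CategoryTheory CategoryTheory.Limits AlgebraicGeometry MonoidalCategory Groth.CohTwo

namespace Groth.DerivedCoh.KFlat

variable {X : Scheme.{u}}

/-- the morphism corresponding to a section -/
noncomputable def secHom (M : X.Modules) {U : X.Opens} (s : Γ(M, U)) : belowO X U ⟶ M :=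
  (exists_sectionHom M s).choose

lemma secHom_app_one (M : X.Modules) {U : X.Opens} (s : Γ(M, U)) :
    (secHom M s).app U (oneSec le_rfl) = s :=
  (exists_sectionHom M s).choose_spec

lemma belowO_hom_ext {M : X.Modules} {U : X.Opens} {φ ψ : belowO X U ⟶ M}
    (h : φ.app U (oneSec le_rfl) = ψ.app U (oneSec le_rfl)) : φ = ψ := by
  refine below_hom_ext fun W hW s => ?_
  have e : (belowMk s (.of_le hW s) : Γ(belowO X U, W)) =
      (show Γ(X, W) from s) • res (belowO X U) hW (oneSec le_rfl) := by
    refine coefO_injective ?_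
    rw [coefO_smul, coefO_res, coefO_oneSec, map_one, mul_one]
    rfl
  rw [e, φ.app_smul, ψ.app_smul, app_res, app_res, h]

lemma secHom_comp {M M' : X.Modules} {U : X.Opens} (s : Γ(M, U)) (f : M ⟶ M') :
    secHom M s ≫ f = secHom M' (f.app U s) := by
  refine belowO_hom_ext ?_
  rw [Scheme.Modules.Hom.comp_app, ConcreteCategory.comp_apply, secHom_app_one, secHom_app_one]

lemma secHom_zero (M : X.Modules) (U : X.Opens) : secHom M (0 : Γ(M, U)) = 0 :=
  belowO_hom_ext (by rw [secHom_app_one]; rfl)

/-- nonzero local sections -/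
abbrev NzSec (M : X.Modules) : Type u := {p : Σ U : X.Opens, Γ(M, U) // p.2 ≠ 0}

/-- the flat cover of a module -/
noncomputable abbrev coverObj (M : X.Modules) : X.Modules := ∐ fun i : NzSec M => belowO X i.1.1

open scoped Classical in
/-- the summand of a section -/
noncomputable def inj (M : X.Modules) (U : X.Opens) (t : Γ(M, U)) : belowO X U ⟶ coverObj M :=
  if h : t = 0 then 0 else Sigma.ι (fun i : NzSec M => belowO X i.1.1) ⟨⟨U, t⟩, h⟩

lemma inj_zero (M : X.Modules) (U : X.Opens) : inj M U 0 = 0 := by simp [inj]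

lemma ι_eq_inj (M : X.Modules) (i : NzSec M) :
    Sigma.ι (fun i : NzSec M => belowO X i.1.1) i = inj M i.1.1 i.1.2 := by
  simp [inj, i.2]

/-- functoriality of the flat cover -/
noncomputable def coverMap {M M' : X.Modules} (f : M ⟶ M') : coverObj M ⟶ coverObj M' :=
  Sigma.desc fun i => inj M' i.1.1 (f.app i.1.1 i.1.2)

lemma inj_map {M M' : X.Modules} (f : M ⟶ M') (U : X.Opens) (t : Γ(M, U)) :
    inj M U t ≫ coverMap f = inj M' U (f.app U t) := by
  by_cases h : t = 0
  · simp [h, inj_zero]
  · simp [inj, h, coverMap]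

/-- the flat cover -/
noncomputable def coverFunctor : X.Modules ⥤ X.Modules where
  obj := coverObj
  map := coverMap
  map_id M := Sigma.hom_ext _ _ fun i => by
    rw [ι_eq_inj, inj_map, Category.comp_id]
    rfl
  map_comp f g := Sigma.hom_ext _ _ fun i => by
    rw [ι_eq_inj, inj_map, ← Category.assoc, inj_map, inj_map]
    rfl

/-- the projection of the cover -/
noncomputable def coverπ (M : X.Modules) : coverObj M ⟶ M := Sigma.desc fun i => secHom M i.1.2

lemma inj_π (M : X.Modules) (U : X.Opens) (t : Γ(M, U)) : inj M U t ≫ coverπ M = secHom M t := by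
  by_cases h : t = 0
  · simp [h, inj_zero, secHom_zero]
  · simp [inj, h, coverπ]

lemma coverπ_naturality {M M' : X.Modules} (f : M ⟶ M') :
    coverMap f ≫ coverπ M' = coverπ M ≫ f :=
  Sigma.hom_ext _ _ fun i => by
    rw [ι_eq_inj, ← Category.assoc, inj_map, inj_π, ← Category.assoc, inj_π, secHom_comp]

lemma epi_coverπ (M : X.Modules) : Epi (coverπ M) :=
  ⟨fun {G} g h e => hom_ext_app fun W s => by
    have hi := inj M W s ≫= e
    rw [← Category.assoc, ← Category.assoc, inj_π, secHom_comp, secHom_comp] at hi
    have := congr(($hi).app W (oneSec le_rfl))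
    rwa [secHom_app_one, secHom_app_one] at this⟩

lemma coverMap_zero (M M' : X.Modules) : coverMap (0 : M ⟶ M') = 0 :=
  Sigma.hom_ext _ _ fun i => by
    rw [ι_eq_inj, inj_map, comp_zero]
    exact inj_zero _ _

/-- the flat cover on schemes -/
noncomputable def schemeCover (X : Scheme.{u}) : Cover X.Modules where
  P := coverFunctor
  π :=
    { app := coverπ
      naturality := fun M M' f => coverπ_naturality f }
  epi := epi_coverπ
  preservesZero := ⟨coverMap_zero⟩

lemma isFlat_coverObj (M : X.Modules) : FlatMod.IsFlat (coverObj M) :=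
  isFlat_sigma _ fun _ => isFlat_below_structureModule _

lemma isFlat_of_isZero {M : X.Modules} (h : IsZero M) : FlatMod.IsFlat M := fun x => by
  have : Subsingleton (M.presheaf.stalk x) :=
    AddCommGrpCat.subsingleton_of_isZero ((Groth.QCohMod.isZero_iff_stalk M).1 h x)
  exact inferInstanceAs (Module.Flat _ _)

lemma isFlat_sigma₀ (ι : Type) (N : ι → X.Modules) (h : ∀ i, FlatMod.IsFlat (N i)) :
    FlatMod.IsFlat (∐ N) :=
  isFlat_of_iso (Limits.Sigma.whiskerEquiv (f := N) (g := fun i : ULift.{u} ι => N i.down)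
    Equiv.ulift.symm fun _ => Iso.refl _) (isFlat_sigma _ fun i => h i.down)

lemma flat_colimit_module {R : Type u} [CommRing R] {J : Type} [SmallCategory J]
    [HasExactColimitsOfShape J (ModuleCat.{u} R)] (G : J ⥤ ModuleCat.{u} R)
    (h : ∀ j, Module.Flat R (G.obj j)) : Module.Flat R (colimit G : ModuleCat.{u} R) := by
  rw [Module.Flat.iff_rTensor_preserves_shortComplex_exact]
  let Φ : ModuleCat.{u} R ⥤ (J ⥤ ModuleCat.{u} R) :=
    curriedTensor (ModuleCat.{u} R) ⋙ (Functor.whiskeringLeft _ _ _).obj G
  have : ∀ j, Module.Flat R (G.obj j) := h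
  have hT : ∀ Y : ModuleCat.{u} R, PreservesColimit G (tensorLeft Y) := fun Y => inferInstance
  let e : Φ ⋙ colim ≅ tensorRight (colimit G) :=
    NatIso.ofComponents (fun Y => (preservesColimitIso (tensorLeft Y) G).symm) fun {Y Y'} f => by
      refine colimit.hom_ext fun j => ?_
      simp only [Functor.comp_map, Iso.symm_hom]
      erw [ι_colimMap_assoc, ι_preservesColimitIso_inv, ← Category.assoc,
        ι_preservesColimitIso_inv]
      exact (whisker_exchange f (colimit.ι G j)).symm
  intro S hS
  refine ShortComplex.exact_of_iso (S.mapNatIso e) ?_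
  have hΦ : (S.map Φ).Exact := by
    rw [ShortComplex.exact_iff_isZero_homology]
    exact Functor.isZero _ fun j => ((ShortComplex.exact_iff_isZero_homology _).1
      (Module.Flat.rTensor_shortComplex_exact (G.obj j) S hS)).of_iso
      ((S.map Φ).mapHomologyIso ((evaluation J _).obj j)).symm
  have : (colim (J := J) (C := ModuleCat.{u} R)).PreservesHomology := inferInstance
  exact hΦ.map colim

lemma isFlat_colimit_nat (G : ℕ ⥤ X.Modules) (h : ∀ n, FlatMod.IsFlat (G.obj n)) :
    FlatMod.IsFlat (colimit G) := fun x => by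
  have := Groth.DerivedCoh.KInjSmall.hasExactColimitsOfShape_nat
    (A := ModuleCat.{u} (X.presheaf.stalk x))
  have hf := flat_colimit_module (G ⋙ stk x) fun n => h n x
  exact Module.Flat.of_linearEquiv (preservesColimitIso (stk x) G).toLinearEquiv

/-- a functorial resolution -/
noncomputable def flatResolution (X : Scheme.{u}) :
    CochainComplex X.Modules ℤ ⥤ CochainComplex X.Modules ℤ :=
  (schemeCover X).resol

/-- its augmentation -/
noncomputable def flatResolutionAug (X : Scheme.{u}) : flatResolution X ⟶ 𝟭 _ :=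
  (schemeCover X).resolAug

lemma flatResolution_quasiIso (C : CochainComplex X.Modules ℤ) :
    QuasiIso ((flatResolutionAug X).app C) :=
  ((schemeCover X).resolAug_spec C).1

lemma flatResolution_epi (C : CochainComplex X.Modules ℤ) (n : ℤ) :
    Epi (((flatResolutionAug X).app C).f n) :=
  have := ((schemeCover X).resolAug_spec C).2
  inferInstanceAs (Epi ((HomologicalComplex.eval _ _ n).map ((schemeCover X).resolAug.app C)))

lemma flatResolution_isFlat (C : CochainComplex X.Modules ℤ) (n : ℤ) :
    FlatMod.IsFlat (((flatResolution X).obj C).X n) :=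
  (schemeCover X).resol_X_prop FlatMod.IsFlat isFlat_coverObj (fun _ => isFlat_of_isZero)
    (fun e h => isFlat_of_iso e.symm h) isFlat_sigma₀ isFlat_colimit_nat C n

lemma flatResolution_isKFlat (C : CochainComplex X.Modules ℤ) :
    IsKFlat (T X) ((flatResolution X).obj C) :=
  (schemeCover X).isKFlat_resol (T X) FlatMod.IsFlat (fun _ => flat_of_isFlat) isFlat_coverObj
    (fun _ => isFlat_of_isZero) (fun e h => isFlat_of_iso e.symm h) isFlat_sigma₀ C

lemma preservesColimitsOfShape_tensorBi_flip {J : Type} [SmallCategory J] (N : X.Modules) :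
    PreservesColimitsOfShape J ((T X).flip.obj N) where
  preservesColimit {G} := ⟨fun {c} hc => ⟨by
    refine stk_jointly.jointlyReflectsColimit fun x => ?_
    have : PreservesColimitsOfShape J (tensorRight ((stk x).obj N)) :=
      preservesColimitsOfShape_of_natIso (BraidedCategory.tensorLeftIsoTensorRight ((stk x).obj N))
    exact IsColimit.mapCoconeEquiv (tensorFlipStkIso N x).symm
      (isColimitOfPreserves (tensorRight ((stk x).obj N)) (isColimitOfPreserves (stk x) hc))⟩⟩

lemma flatResolution_isKFlat_flip (C : CochainComplex X.Modules ℤ) :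
    IsKFlat (T X).flip ((flatResolution X).obj C) :=
  have : ∀ Y, PreservesColimitsOfShape ℕ ((T X).flip.obj Y) := fun Y =>
    preservesColimitsOfShape_tensorBi_flip Y
  (schemeCover X).isKFlat_resol (T X).flip FlatMod.IsFlat (fun _ => flat_flip_of_isFlat)
    isFlat_coverObj (fun _ => isFlat_of_isZero) (fun e h => isFlat_of_iso e.symm h) isFlat_sigma₀ C

end Groth.DerivedCoh.KFlat
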