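import Groth.Agent.DerivedCoh.KFlat.Factor
import Groth.Agent.DerivedCoh.KFlat.SchemeResolution

/-!
Factorization out of K-flat complexes on schemes.
-/

universe u

open CategoryTheory CategoryTheory.Limits AlgebraicGeometry

namespace Groth.DerivedCoh.KFlat

variable {X : Scheme.{u}}

lemma isFlat_biprod {M N : X.Modules} (hM : FlatMod.IsFlat M) (hN : FlatMod.IsFlat N) :
    FlatMod.IsFlat (M ⊞ N) :=
  Groth.CohTwo.isFlat_of_iso (biprod.isoCoprod M N)
    (isFlat_sigma₀ WalkingPair (pairFunction M N) fun j => by cases j <;> assumption)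

theorem exists_kFlat_factor {K L : CochainComplex X.Modules ℤ} (a : K ⟶ L)
    (hK : IsKFlat (T X) K) :
    ∃ (N : CochainComplex X.Modules ℤ) (b : K ⟶ N) (c : N ⟶ L), IsKFlat (T X) N ∧ QuasiIso c ∧
      b ≫ c = a ∧ ((∀ n, FlatMod.IsFlat (K.X n)) → ∀ n, FlatMod.IsFlat (N.X n)) := by
  obtain ⟨M, φ, b, c, hc, e⟩ := exists_factor (flatResolution X) (flatResolutionAug X)
    flatResolution_quasiIso (fun C => ((schemeCover X).resolAug_spec C).2) a
  refine ⟨_, b, c, (flatResolution_isKFlat M).mappingCone (T X) φ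
    (hK.biprod (T X) (flatResolution_isKFlat L)), hc, e, fun hK n => ?_⟩
  exact prop_mappingCone φ FlatMod.IsFlat (fun e h => Groth.CohTwo.isFlat_of_iso e.symm h)
    isFlat_biprod (flatResolution_isFlat M)
    (fun n => Groth.CohTwo.isFlat_of_iso ((HomologicalComplex.biprodXIso _ _ n))
      (isFlat_biprod (hK n) (flatResolution_isFlat L n))) n

end Groth.DerivedCoh.KFlat
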