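import Mathlib.Algebra.Homology.TotalComplex
import Mathlib.Algebra.Homology.ComplexShapeSigns
import Mathlib.Algebra.Homology.HomologicalBicomplex
import Mathlib.Algebra.Homology.HomologicalComplexLimits
import Mathlib.Algebra.Homology.HomologicalComplexAbelian
import Mathlib.Algebra.Homology.HomologySequence
import Mathlib.Algebra.Homology.HomologySequenceLemmas
import Mathlib.CategoryTheory.Abelian.GrothendieckAxioms.Basic
import Mathlib.CategoryTheory.Abelian.GrothendieckAxioms.Colim
import Mathlib.CategoryTheory.Abelian.FunctorCategory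

/-!
Exactness and colimit properties of total complexes of bicomplexes.
-/

universe v u w

set_option backward.defeqAttrib.useBackward true
set_option backward.isDefEq.respectTransparency false

namespace Groth.DerivedCoh.KFlat

open CategoryTheory CategoryTheory.Limits HomologicalComplex

variable {D : Type u} [Category.{v} D] [Abelian D]

local notation "up" => ComplexShape.up ℤ

/-- evaluation of bicomplexes -/
abbrev evalBi (p q : ℤ) : HomologicalComplex₂ D up up ⥤ D := eval _ _ p ⋙ eval D _ q

/-- the fibre of the addition map -/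
abbrev Fib (n : ℤ) : Type := (ComplexShape.π up up up : ℤ × ℤ → ℤ) ⁻¹' {n}

variable [∀ J : Type, HasColimitsOfShape (Discrete J) D]

instance hasTotal (K : HomologicalComplex₂ D up up) : K.HasTotal up := fun _ => inferInstance

/-- the family of entries of total degree `n` -/
noncomputable def fibFunctor (n : ℤ) :
    HomologicalComplex₂ D up up ⥤ (Discrete (Fib n) ⥤ D) where
  obj K := Discrete.functor fun i => (K.X i.1.1).X i.1.2
  map φ := Discrete.natTrans fun i => (φ.f i.as.1.1).f i.as.1.2
  map_id K := by ext i; rfl
  map_comp f g := by ext i; rfl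

/-- the degree `n` of the total complex as a colimit -/
noncomputable def totalEvalIso (n : ℤ) :
    HomologicalComplex₂.totalFunctor D up up up ⋙ eval D up n ≅ fibFunctor n ⋙ colim :=
  NatIso.ofComponents (fun K => Iso.refl _) (fun {K L} φ => by
    refine HomologicalComplex₂.total.hom_ext _ fun p q h => ?_
    simp only [Functor.comp_obj, Functor.comp_map, Iso.refl_hom, Category.comp_id,
      Category.id_comp]
    exact (HomologicalComplex₂.ιTotal_map (K := K) (L := L) φ up p q n h).trans
      (ι_colimMap ((fibFunctor n).map φ) (Discrete.mk (⟨(p, q), h⟩ : Fib n))).symm)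

lemma shortExact_of_app {J : Type*} [Category* J] (S : ShortComplex (J ⥤ D))
    (h : ∀ j, (S.map ((evaluation J D).obj j)).ShortExact) : S.ShortExact := by
  have : ∀ j, Mono (S.f.app j) := fun j => (h j).mono_f
  have : ∀ j, Epi (S.g.app j) := fun j => (h j).epi_g
  have := NatTrans.mono_of_mono_app S.f
  have := NatTrans.epi_of_epi_app S.g
  refine { exact := (ShortComplex.exact_iff_isZero_homology S).2 (Functor.isZero _ fun j => ?_) }
  exact ((ShortComplex.exact_iff_isZero_homology _).1 (h j).exact).of_iso
    (S.mapHomologyIso ((evaluation J D).obj j)).symm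

instance : (HomologicalComplex₂.totalFunctor D up up up).Additive where
  map_add {K L f g} := by
    refine HomologicalComplex.hom_ext _ _ fun n => HomologicalComplex₂.total.hom_ext _ fun p q h => ?_
    simp [Preadditive.comp_add, Preadditive.add_comp]

instance (n : ℤ) : (fibFunctor (D := D) n).Additive where

lemma shortExact_total [∀ J : Type, HasExactColimitsOfShape (Discrete J) D]
    (S : ShortComplex (HomologicalComplex₂ D up up))
    (h : ∀ p q, (S.map (evalBi p q)).ShortExact) :
    (S.map (HomologicalComplex₂.totalFunctor D up up up)).ShortExact := by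
  refine HomologicalComplex.shortExact_of_degreewise_shortExact _ fun n => ?_
  refine ShortComplex.shortExact_of_iso (S.mapNatIso (totalEvalIso n)).symm ?_
  refine ShortComplex.ShortExact.map_of_exact (shortExact_of_app (S.map (fibFunctor n)) ?_) colim
  exact fun i => h i.as.1.1 i.as.1.2

/-- a pointwise colimit of bicomplexes is sent to a colimit of total complexes -/
noncomputable def isColimitTotal {J : Type w} [Category J] {G : J ⥤ HomologicalComplex₂ D up up}
    (c : Cocone G) (hc : ∀ p q, IsColimit ((evalBi p q).mapCocone c)) :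
    IsColimit ((HomologicalComplex₂.totalFunctor D up up up).mapCocone c) := by
  refine isColimitOfEval _ _ fun n => ?_
  let h : IsColimit ((fibFunctor n).mapCocone c) :=
    evaluationJointlyReflectsColimits _ fun i => hc i.as.1.1 i.as.1.2
  exact IsColimit.mapCoconeEquiv (totalEvalIso n).symm (isColimitOfPreserves colim h)

lemma acyclic_total_of_row (K : HomologicalComplex₂ D up up) (q₀ : ℤ)
    (h0 : ∀ p q, q ≠ q₀ → IsZero ((K.X p).X q)) (hrow : (K.flip.X q₀).Acyclic) :
    (K.total up).Acyclic := by
  intro n
  let e : ∀ p m, p + q₀ = m → ((K.X p).X q₀ ≅ (K.total up).X m) := fun p m hm =>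
    { hom := K.ιTotal up p q₀ m hm
      inv := K.totalDesc fun p' q' h' =>
        if hq : q' = q₀ then eqToHom (by
          subst hq
          obtain rfl : p' = p := by simp at h'; lia
          rfl) else 0
      hom_inv_id := by simp
      inv_hom_id := by
        refine HomologicalComplex₂.total.hom_ext _ fun p' q' h' => ?_
        rw [HomologicalComplex₂.ι_totalDesc_assoc, Category.comp_id]
        by_cases hq : q' = q₀
        · subst hq
          obtain rfl : p' = p := by simp at h'; lia
          simp
        · exact (h0 p' q' hq).eq_of_src _ _ }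
  have hd : ∀ p p' m m' (hm : p + q₀ = m) (hp : p + 1 = p') (hm' : m + 1 = m'),
      (e p m hm).hom ≫ (K.total up).d m m' = (K.d p p').f q₀ ≫ (e p' m' (by lia)).hom := by
    intro p p' m m' hm hp hm'
    subst hp hm'
    change K.ιTotal up p q₀ m hm ≫ (K.D₁ up m (m + 1) + K.D₂ up m (m + 1)) = _
    rw [Preadditive.comp_add, HomologicalComplex₂.ι_D₁, HomologicalComplex₂.ι_D₂,
      K.d₁_eq up (show (up).Rel p (p + 1) by simp) q₀ (m + 1) (by simp; lia),
      K.d₂_eq up p (show (up).Rel q₀ (q₀ + 1) by simp) (m + 1) (by simp; lia),
      (h0 p (q₀ + 1) (by lia)).eq_of_tgt ((K.X p).d q₀ (q₀ + 1)) 0, zero_comp, smul_zero, add_zero]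
    simp [e]
  rw [exactAt_iff' _ (n - 1) n (n + 1) (by simp) (by simp)]
  have hr := hrow (n - q₀)
  rw [exactAt_iff' _ (n - 1 - q₀) (n - q₀) (n + 1 - q₀) (by simp; lia) (by simp; lia)] at hr
  refine ShortComplex.exact_of_iso (ShortComplex.isoMk (e (n - 1 - q₀) (n - 1) (by lia))
    (e (n - q₀) n (by lia)) (e (n + 1 - q₀) (n + 1) (by lia)) ?_ ?_) hr
  · exact hd _ _ _ _ (by lia) (by lia) (by lia)
  · exact hd _ _ _ _ (by lia) (by lia) (by lia)

end Groth.DerivedCoh.KFlat
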